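import Mathlib

/-!
Self-reciprocal polynomials.
-/

set_option autoImplicit false
set_option linter.unusedSectionVars false

namespace SpClassCount2482

open Polynomial

variable {F : Type*} [Field F]

/-- the reciprocal polynomial, made monic -/
noncomputable def du (f : F[X]) : F[X] := f.reverse * C (f.coeff 0)⁻¹

lemma natTrailing_zero {f : F[X]} (h0 : f.coeff 0 ≠ 0) : f.natTrailingDegree = 0 :=
  natTrailingDegree_eq_zero.2 (Or.inr h0)

lemma natDegree_du {f : F[X]} (h0 : f.coeff 0 ≠ 0) : (du f).natDegree = f.natDegree := by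
  rw [du, natDegree_mul_C (inv_ne_zero h0), reverse_natDegree, natTrailing_zero h0, Nat.sub_zero]

lemma coeff_du (f : F[X]) {i : ℕ} (hi : i ≤ f.natDegree) :
    (du f).coeff i = f.coeff (f.natDegree - i) * (f.coeff 0)⁻¹ := by
  rw [du, coeff_mul_C, coeff_reverse, revAt_le hi]

lemma du_monic {f : F[X]} (h0 : f.coeff 0 ≠ 0) : (du f).Monic := by
  rw [Monic, leadingCoeff, natDegree_du h0, coeff_du f le_rfl, Nat.sub_self, mul_inv_cancel₀ h0]

lemma du_coeff_zero {f : F[X]} (hm : f.Monic) : (du f).coeff 0 = (f.coeff 0)⁻¹ := by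
  rw [coeff_du f (Nat.zero_le _), Nat.sub_zero, hm.coeff_natDegree, one_mul]

lemma du_du {f : F[X]} (hm : f.Monic) (h0 : f.coeff 0 ≠ 0) : du (du f) = f := by
  have h1 : (du f).coeff 0 ≠ 0 := by rw [du_coeff_zero hm]; exact inv_ne_zero h0
  ext i
  rcases le_or_gt i f.natDegree with hi | hi
  · rw [coeff_du _ (by rw [natDegree_du h0]; exact hi), natDegree_du h0, coeff_du f (by omega),
      du_coeff_zero hm, show f.natDegree - (f.natDegree - i) = i by omega, inv_inv]
    field_simp
  · rw [coeff_eq_zero_of_natDegree_lt hi, coeff_eq_zero_of_natDegree_lt]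
    rw [natDegree_du h1, natDegree_du h0]; exact hi

lemma du_mul (f g : F[X]) : du (f * g) = du f * du g := by
  rw [du, du, du, reverse_mul_of_domain, mul_coeff_zero, mul_inv, map_mul]
  ring

lemma du_irreducible {f : F[X]} (hm : f.Monic) (h0 : f.coeff 0 ≠ 0) (hi : Irreducible f) :
    Irreducible (du f) := by
  have h1 : (du f).coeff 0 ≠ 0 := by rw [du_coeff_zero hm]; exact inv_ne_zero h0
  refine ((du_monic h0).irreducible_iff_natDegree).2 ⟨fun h => ?_, fun a b ha hb hab => ?_⟩
  · have := hi.natDegree_pos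
    rw [← natDegree_du h0, h, natDegree_one] at this
    omega
  · have h00 : a.coeff 0 * b.coeff 0 ≠ 0 := by rw [← mul_coeff_zero, hab]; exact h1
    obtain ⟨ha0, hb0⟩ := mul_ne_zero_iff.1 h00
    have := congrArg du hab
    rw [du_mul, du_du hm h0] at this
    have h := ((hm.irreducible_iff_natDegree).1 hi).2 _ _ (du_monic ha0) (du_monic hb0) this
    rwa [natDegree_du ha0, natDegree_du hb0] at h

/-- monic self-reciprocal polynomials -/
def SR (f : F[X]) : Prop := f.Monic ∧ f.reverse = C (f.coeff 0) * f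

lemma SR.sq_const {f : F[X]} (h : SR f) : f.coeff 0 * f.coeff 0 = 1 := by
  have := congrArg (coeff · 0) h.2
  simp only [coeff_zero_reverse, coeff_C_mul, h.1.leadingCoeff] at this
  exact this.symm

lemma SR.coeff_ne {f : F[X]} (h : SR f) : f.coeff 0 ≠ 0 := left_ne_zero_of_mul_eq_one h.sq_const

lemma SR.const_cases {f : F[X]} (h : SR f) : f.coeff 0 = 1 ∨ f.coeff 0 = -1 :=
  mul_self_eq_one_iff.1 h.sq_const

lemma SR.coeff_eq {f : F[X]} (h : SR f) {i : ℕ} (hi : i ≤ f.natDegree) :
    f.coeff (f.natDegree - i) = f.coeff 0 * f.coeff i := by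
  have := congrArg (coeff · i) h.2
  simp only [coeff_reverse, revAt_le hi, coeff_C_mul] at this
  exact this

lemma SR_one : SR (1 : F[X]) := ⟨monic_one, by rw [← C_1, reverse_C]; simp⟩

lemma SR.mul {f g : F[X]} (hf : SR f) (hg : SR g) : SR (f * g) :=
  ⟨hf.1.mul hg.1, by rw [reverse_mul_of_domain, hf.2, hg.2, mul_coeff_zero, map_mul]; ring⟩

lemma SR.of_mul {f g : F[X]} (hf : SR f) (h : SR (f * g)) : SR g := by
  refine ⟨hf.1.of_mul_monic_left h.1, ?_⟩
  have e := h.2
  rw [reverse_mul_of_domain, hf.2, mul_coeff_zero, map_mul] at e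
  refine mul_left_cancel₀ (mul_ne_zero (C_ne_zero.2 hf.coeff_ne) hf.1.ne_zero) ?_
  rw [e]; ring

lemma SR_iff_du {f : F[X]} (hm : f.Monic) (h0 : f.coeff 0 ≠ 0) (h : du f = f) : SR f := by
  refine ⟨hm, ?_⟩
  calc f.reverse = du f * C (f.coeff 0) := by rw [du, mul_assoc, ← C_mul, inv_mul_cancel₀ h0, C_1, mul_one]
    _ = _ := by rw [h, mul_comm]

lemma SR_pair {f : F[X]} (hm : f.Monic) (h0 : f.coeff 0 ≠ 0) :
    SR (f * du f) ∧ (f * du f).natDegree = 2 * f.natDegree ∧ (f * du f).coeff 0 = 1 := by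
  have h1 : (f * du f).coeff 0 = 1 := by rw [mul_coeff_zero, du_coeff_zero hm, mul_inv_cancel₀ h0]
  refine ⟨SR_iff_du (hm.mul (du_monic h0)) (by rw [h1]; exact one_ne_zero) ?_, ?_, h1⟩
  · rw [du_mul, du_du hm h0, mul_comm]
  · rw [hm.natDegree_mul (du_monic h0), natDegree_du h0, two_mul]

lemma SR.reverse_eval {f : F[X]} (h : SR f) {e : F} (he : e * e = 1) :
    f.coeff 0 * f.eval e = e ^ f.natDegree * f.eval e := by
  have h1 : f.reverse.eval e = f.coeff 0 * f.eval e := by rw [h.2, eval_mul, eval_C]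
  rw [← h1, eval_eq_sum_range' (Nat.lt_succ_of_le (reverse_natDegree_le f)) e,
    eval_eq_sum_range' (lt_add_one f.natDegree) e, Finset.mul_sum, ← Finset.sum_range_reflect]
  refine Finset.sum_congr rfl fun i hi => ?_
  have hi' : i ≤ f.natDegree := Nat.lt_succ_iff.1 (Finset.mem_range.1 hi)
  rw [Nat.succ_eq_add_one, Nat.add_sub_cancel, coeff_reverse, revAt_le (Nat.sub_le _ _),
    show f.natDegree - (f.natDegree - i) = i by omega, mul_left_comm]
  congr 1
  conv_rhs => rw [← pow_add, show f.natDegree + i = 2 * i + (f.natDegree - i) by omega, pow_add, pow_mul, sq, he,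
    one_pow, one_mul]

lemma X_sub_C_SR {e : F} (he : e * e = 1) : SR (X - C e) := by
  refine ⟨monic_X_sub_C e, ?_⟩
  have h0 : (X - C e).coeff 0 = -e := by simp
  rw [h0]
  ext i
  rcases i with _ | _ | i
  · simp [he]
  · rw [coeff_reverse, natDegree_X_sub_C, revAt_le le_rfl, coeff_C_mul]
    simp
  · rw [coeff_eq_zero_of_natDegree_lt ((reverse_natDegree_le _).trans_lt (by rw [natDegree_X_sub_C]; omega)),
      coeff_eq_zero_of_natDegree_lt]
    exact (natDegree_C_mul_le _ _).trans_lt (by rw [natDegree_X_sub_C]; omega)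

lemma SR.even_of_irreducible (h2 : (2 : F) ≠ 0) {f : F[X]} (h : SR f) (hi : Irreducible f)
    (h1 : f ≠ X - C 1) (hn : f ≠ X - C (-1)) : Even f.natDegree ∧ f.coeff 0 = 1 := by
  have key : ∀ e : F, f ≠ X - C e → f.eval e ≠ 0 := fun e hne h0 =>
    hne (eq_of_monic_of_associated h.1 (monic_X_sub_C e)
      ((irreducible_X_sub_C e).associated_of_dvd hi (dvd_iff_isRoot.2 h0)).symm)
  have hne : (1 : F) ≠ -1 := fun e => h2 (by linear_combination e)
  have hc : f.coeff 0 = 1 := by
    have := mul_right_cancel₀ (key 1 h1) (h.reverse_eval (mul_one 1))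
    rwa [one_pow] at this
  refine ⟨?_, hc⟩
  rcases Nat.even_or_odd f.natDegree with he | ho
  · exact he
  · have := mul_right_cancel₀ (key (-1) hn) (h.reverse_eval (show (-1 : F) * -1 = 1 by ring))
    rw [hc, ho.neg_one_pow] at this
    exact absurd this hne

/-- counting numbers of self-reciprocal polynomials -/
def cs (q : ℕ) : ℕ → ℕ
  | 0 => 1
  | k + 1 => if k % 2 = 0 then 2 * q ^ (k / 2) else q ^ (k / 2 + 1) + q ^ (k / 2)

/-- the self-reciprocal polynomials of degree `m` -/
noncomputable def srSet (F : Type*) [Field F] [Fintype F] (m : ℕ) : Finset F[X] := by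
  classical
  exact ((Finset.univ : Finset (Fin m → F)).image
    fun v => X ^ m + ∑ i : Fin m, C (v i) * X ^ (i : ℕ)).filter fun f => SR f ∧ f.natDegree = m

lemma mem_srSet [Fintype F] {m : ℕ} {f : F[X]} : f ∈ srSet F m ↔ SR f ∧ f.natDegree = m := by
  classical
  rw [srSet, Finset.mem_filter, and_iff_right_iff_imp]
  rintro ⟨h, rfl⟩
  refine Finset.mem_image.2 ⟨fun i => f.coeff i, Finset.mem_univ _, ?_⟩
  conv_rhs => rw [h.1.as_sum, Finset.sum_range fun i => C (f.coeff i) * X ^ i]

lemma card_const_le [Fintype F] [DecidableEq F] (h2 : (2 : F) ≠ 0) (k : ℕ) (a : F) :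
    ((srSet F (k + 1)).filter fun f => f.coeff 0 = a).card ≤
      if k % 2 = 1 ∧ a = -1 then Fintype.card F ^ (k / 2) else Fintype.card F ^ ((k + 1) / 2) := by
  have hne : (1 : F) ≠ -1 := fun e => h2 (by linear_combination e)
  let L := if k % 2 = 1 ∧ a = -1 then k / 2 else (k + 1) / 2
  rw [← apply_ite (fun x => Fintype.card F ^ x)]
  refine le_trans (Finset.card_le_card_of_injOn (t := (Finset.univ : Finset (Fin L → F)))
    (fun f i => f.coeff (i.val + 1)) (fun _ _ => Finset.mem_univ _) fun f hf g hg h => ?_) (le_of_eq ?_)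
  · obtain ⟨hf, hfa⟩ := Finset.mem_filter.1 hf
    obtain ⟨hg, hga⟩ := Finset.mem_filter.1 hg
    obtain ⟨hf, hdf⟩ := mem_srSet.1 hf
    obtain ⟨hg, hdg⟩ := mem_srSet.1 hg
    have hlow : ∀ i, 2 * i ≤ k + 1 → f.coeff i = g.coeff i := by
      intro i hi
      rcases i with _ | j
      · rw [hfa, hga]
      · by_cases hj : j < L
        · exact congrFun h ⟨j, hj⟩
        · have hk : k % 2 = 1 ∧ a = -1 := by
            by_contra hc
            simp only [L, if_neg hc] at hj
            omega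
          simp only [L, if_pos hk] at hj
          have e1 := hf.coeff_eq (i := j + 1) (by omega)
          have e2 := hg.coeff_eq (i := j + 1) (by omega)
          rw [hdf, show k + 1 - (j + 1) = j + 1 by omega, hfa, hk.2] at e1
          rw [hdg, show k + 1 - (j + 1) = j + 1 by omega, hga, hk.2] at e2
          have z1 : f.coeff (j + 1) * 2 = 0 := by linear_combination e1
          have z2 : g.coeff (j + 1) * 2 = 0 := by linear_combination e2
          rw [(mul_eq_zero.1 z1).resolve_right h2, (mul_eq_zero.1 z2).resolve_right h2]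
    ext i
    rcases le_or_gt i (k + 1) with hi | hi
    · by_cases h2i : 2 * i ≤ k + 1
      · exact hlow i h2i
      · have e1 := hf.coeff_eq (i := k + 1 - i) (by omega)
        have e2 := hg.coeff_eq (i := k + 1 - i) (by omega)
        rw [hdf, show k + 1 - (k + 1 - i) = i by omega] at e1
        rw [hdg, show k + 1 - (k + 1 - i) = i by omega] at e2
        rw [e1, e2, hlow (k + 1 - i) (by omega), hfa, hga]
    · rw [coeff_eq_zero_of_natDegree_lt (by omega), coeff_eq_zero_of_natDegree_lt (by omega)]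
  · rw [Finset.card_univ, Fintype.card_fun, Fintype.card_fin]

lemma card_srSet_le [Fintype F] (h2 : (2 : F) ≠ 0) (m : ℕ) : (srSet F m).card ≤ cs (Fintype.card F) m := by
  classical
  rcases m with _ | k
  · rw [cs]
    refine Finset.card_le_one.2 fun a ha b hb => ?_
    rw [eq_one_of_monic_natDegree_zero (mem_srSet.1 ha).1.1 (mem_srSet.1 ha).2,
      eq_one_of_monic_natDegree_zero (mem_srSet.1 hb).1.1 (mem_srSet.1 hb).2]
  have hne : (1 : F) ≠ -1 := fun e => h2 (by linear_combination e)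
  have hsplit : srSet F (k + 1) = (srSet F (k + 1)).filter (fun f => f.coeff 0 = 1) ∪
      (srSet F (k + 1)).filter (fun f => f.coeff 0 = -1) := by
    rw [← Finset.filter_or, Finset.filter_true_of_mem fun f hf => (mem_srSet.1 hf).1.const_cases]
  rw [hsplit]
  refine (Finset.card_union_le _ _).trans ((Nat.add_le_add (card_const_le h2 k 1) (card_const_le h2 k (-1))).trans ?_)
  rw [if_neg (fun h => hne h.2), cs]
  rcases Nat.mod_two_eq_zero_or_one k with hk | hk
  · rw [if_pos hk, if_neg (by omega), show (k + 1) / 2 = k / 2 by omega, two_mul]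
  · rw [if_neg (by omega : ¬ k % 2 = 0), if_pos ⟨hk, rfl⟩, show (k + 1) / 2 = k / 2 + 1 by omega]

lemma card_srOne_le [Fintype F] [DecidableEq F] (h2 : (2 : F) ≠ 0) (l : ℕ) :
    ((srSet F (2 * l)).filter fun f => f.coeff 0 = 1).card ≤ Fintype.card F ^ l := by
  rcases l with _ | l
  · refine ((Finset.card_filter_le _ _).trans (card_srSet_le h2 0)).trans (le_of_eq ?_)
    simp [cs]
  · rw [show 2 * (l + 1) = (2 * l + 1) + 1 by omega]
    refine (card_const_le h2 _ _).trans (le_of_eq ?_)
    rw [if_neg (fun h => h2 (by linear_combination h.2)), show (2 * l + 1 + 1) / 2 = l + 1 by omega]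

/-- weight of the forms on a part of even size -/
noncomputable def wk (f : F[X]) : ℕ := by
  classical
  exact (if f.eval 1 = 0 then 2 else 1) * (if f.eval (-1) = 0 then 2 else 1)

/-- weighted counting numbers -/
def we (q : ℕ) : ℕ → ℕ
  | 0 => cs q 0
  | 1 => cs q 1 + 2 * cs q 0
  | m + 2 => cs q (m + 2) + 2 * cs q (m + 1) + cs q m

open Classical in
lemma card_root_le [Fintype F] (h2 : (2 : F) ≠ 0) (m : ℕ) (g : F[X]) (hg : SR g)
    (d : ℕ) (hd : g.natDegree + d = m) :
    ((srSet F m).filter fun f => g ∣ f).card ≤ cs (Fintype.card F) d := by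
  classical
  refine le_trans ?_ (card_srSet_le h2 d)
  refine le_trans (Finset.card_le_card (t := (srSet F d).image fun p => g * p) fun f hf => ?_) Finset.card_image_le
  obtain ⟨hf, p, rfl⟩ := Finset.mem_filter.1 hf
  obtain ⟨h, hdeg⟩ := mem_srSet.1 hf
  have hp := hg.of_mul h
  refine Finset.mem_image.2 ⟨p, mem_srSet.2 ⟨hp, ?_⟩, rfl⟩
  rw [hg.1.natDegree_mul hp.1] at hdeg
  omega

lemma sum_wk_le [Fintype F] (h2 : (2 : F) ≠ 0) (m : ℕ) :
    ∑ f ∈ srSet F m, wk f ≤ we (Fintype.card F) m := by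
  classical
  have hne : (1 : F) ≠ -1 := fun e => h2 (by linear_combination e)
  have hco : IsCoprime (X - C (1 : F)) (X - C (-1)) := isCoprime_X_sub_C_of_isUnit_sub
    (Ne.isUnit (sub_ne_zero.2 hne))
  have hs : ∀ f ∈ srSet F m, wk f ≤ 1 + (if X - C (1 : F) ∣ f then 1 else 0) + (if X - C (-1 : F) ∣ f then 1 else 0)
      + (if (X - C (1 : F)) * (X - C (-1)) ∣ f then 1 else 0) := by
    intro f _
    rw [wk]
    have e1 : X - C (1 : F) ∣ f ↔ f.eval 1 = 0 := dvd_iff_isRoot
    have e2 : X - C (-1 : F) ∣ f ↔ f.eval (-1) = 0 := dvd_iff_isRoot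
    by_cases a : f.eval 1 = 0 <;> by_cases b : f.eval (-1) = 0
    · rw [if_pos a, if_pos b, if_pos (e1.2 a), if_pos (e2.2 b), if_pos (hco.mul_dvd (e1.2 a) (e2.2 b))]
    · rw [if_pos a, if_neg b, if_pos (e1.2 a)]; omega
    · rw [if_neg a, if_pos b, if_pos (e2.2 b)]; omega
    · rw [if_neg a, if_neg b]; omega
  refine (Finset.sum_le_sum hs).trans ?_
  simp only [Finset.sum_add_distrib, ← Finset.sum_filter, ← Finset.card_eq_sum_ones]
  have hsmall : ∀ g : F[X], m < g.natDegree → ((srSet F m).filter fun f => g ∣ f) = ∅ := fun g hg =>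
    Finset.filter_eq_empty_iff.2 fun f hf hdvd => by
      obtain ⟨h, hd⟩ := mem_srSet.1 hf
      have := natDegree_le_of_dvd hdvd h.1.ne_zero
      omega
  have hS1 : SR (X - C (1 : F)) := X_sub_C_SR (mul_one 1)
  have hS2 : SR (X - C (-1 : F)) := X_sub_C_SR (by ring)
  have hdeg : ((X - C (1 : F)) * (X - C (-1))).natDegree = 2 := by
    rw [hS1.1.natDegree_mul hS2.1, natDegree_X_sub_C, natDegree_X_sub_C]
  rcases m with _ | _ | m
  · rw [hsmall (X - C 1) (by rw [natDegree_X_sub_C]; omega), hsmall (X - C (-1)) (by rw [natDegree_X_sub_C]; omega),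
      hsmall ((X - C (1 : F)) * (X - C (-1))) (by rw [hdeg]; omega), we]
    simpa using card_srSet_le h2 0
  · rw [hsmall ((X - C (1 : F)) * (X - C (-1))) (by rw [hdeg]; omega), we, Finset.card_empty, add_zero, two_mul, ← add_assoc]
    exact Nat.add_le_add (Nat.add_le_add (card_srSet_le h2 _)
      (card_root_le h2 _ _ hS1 0 (by rw [natDegree_X_sub_C]))) (card_root_le h2 _ _ hS2 0 (by rw [natDegree_X_sub_C]))
  · rw [we, two_mul, ← add_assoc (cs _ _) (cs _ _) (cs _ _)]
    exact Nat.add_le_add (Nat.add_le_add (Nat.add_le_add (card_srSet_le h2 _)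
      (card_root_le h2 _ _ hS1 (m + 1) (by rw [natDegree_X_sub_C, add_comm])))
      (card_root_le h2 _ _ hS2 (m + 1) (by rw [natDegree_X_sub_C, add_comm])))
      (card_root_le h2 _ _ (hS1.mul hS2) m (by rw [hdeg, add_comm]))

end SpClassCount2482
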