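import Mathlib
import Cfsg.Agent.Lib.Classical.NormSurj
import Cfsg.Agent.SpClassCount.Forms

/-!
Indecomposable pieces of invariant alternating forms.
-/

set_option autoImplicit false
set_option linter.unusedSectionVars false

universe u

namespace SpClassCount2482

open Polynomial Module GLClassCount2478 SUClassCount2481 Cfsg.Agent.Classical

variable {F : Type u} [Field F] {M : Type u} [AddCommGroup M] [Module F M] [Module F[X] M]
  [IsScalarTower F F[X] M] {B : M →ₗ[F] M →ₗ[F] F} {N : ℕ}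

/-- the form pulled back -/
noncomputable def pull {N' : Type u} [AddCommGroup N'] [Module F N'] [Module F[X] N'] [IsScalarTower F F[X] N']
    (B : M →ₗ[F] M →ₗ[F] F) (φ : N' →ₗ[F[X]] M) : N' →ₗ[F] N' →ₗ[F] F :=
  B.compl₁₂ (φ.restrictScalars F) (φ.restrictScalars F)

variable {N' : Type u} [AddCommGroup N'] [Module F N'] [Module F[X] N'] [IsScalarTower F F[X] N']

@[simp] lemma pull_apply (φ : N' →ₗ[F[X]] M) (x y : N') : pull B φ x y = B (φ x) (φ y) := rfl

lemma IsInv.pull (hB : IsInv B) (φ : N' →ₗ[F[X]] M) : IsInv (pull B φ) :=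
  ⟨fun x => hB.alt _, fun x y => by simp only [pull_apply, map_smul]; exact hB.inv _ _⟩

lemma injective_of_nondeg {φ : N' →ₗ[F[X]] M} (h : Nondeg (pull B φ)) : Function.Injective φ := by
  intro a b hab
  refine sub_eq_zero.1 (h _ fun y => ?_)
  rw [pull_apply, map_sub, hab, sub_self, map_zero, LinearMap.zero_apply]

lemma Period.of_injective {φ : N' →ₗ[F[X]] M} (hφ : Function.Injective φ) (hN : Period F M N) : Period F N' N :=
  ⟨hN.1, fun x => hφ (by rw [map_smul, hN.2])⟩

lemma Nondeg.pull_equiv {e : N' →ₗ[F[X]] M} (he : Function.Bijective e) (h : Nondeg B) : Nondeg (pull B e) := by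
  intro x hx
  refine he.1 ((h _ fun y => ?_).trans (map_zero e).symm)
  obtain ⟨z, rfl⟩ := he.2 y
  exact hx z

/-- the homomorphism from a cyclic block -/
noncomputable def cyc {f : F[X]} {m : ℕ} (u : M) (h : f ^ m • u = 0) : blk (f, m) →ₗ[F[X]] M :=
  Submodule.liftQ _ (LinearMap.toSpanSingleton F[X] M u)
    ((Submodule.span_singleton_le_iff_mem _ _).2 (LinearMap.mem_ker.2 h))

@[simp] lemma cyc_mk {f : F[X]} {m : ℕ} (u : M) (h : f ^ m • u = 0) (r : F[X]) :
    cyc u h (Submodule.Quotient.mk r : blk (f, m)) = r • u := rfl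

/-- the generator of a block -/
noncomputable def one' (f : F[X]) (m : ℕ) : blk (f, m) := Submodule.Quotient.mk 1

@[simp] lemma cyc_one {f : F[X]} {m : ℕ} (u : M) (h : f ^ m • u = 0) : cyc u h (one' f m) = u :=
  (cyc_mk u h 1).trans (one_smul _ _)

lemma eq_smul_one {f : F[X]} {m : ℕ} (x : blk (f, m)) : ∃ r : F[X], x = r • one' f m := by
  obtain ⟨r, rfl⟩ := Submodule.Quotient.mk_surjective _ x
  exact ⟨r, by rw [one', ← Submodule.Quotient.mk_smul, smul_eq_mul, mul_one]⟩

lemma smul_one_eq_zero {f : F[X]} {m : ℕ} (r : F[X]) : r • one' f m = 0 ↔ f ^ m ∣ r := by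
  rw [one', ← Submodule.Quotient.mk_smul, Submodule.Quotient.mk_eq_zero, smul_eq_mul, mul_one]
  exact Ideal.mem_span_singleton (α := F[X])

lemma blk_kill {f : F[X]} {m : ℕ} (x : blk (f, m)) : f ^ m • x = 0 := by
  obtain ⟨r, rfl⟩ := eq_smul_one x
  rw [smul_smul, smul_one_eq_zero]
  exact dvd_mul_right _ _

lemma blk_ker {f : F[X]} (hfi : Irreducible f) {m : ℕ} (hm : 1 ≤ m) (x : blk (f, m))
    (hx : f ^ (m - 1) • x = 0) : ∃ y, x = f • y := by
  obtain ⟨r, rfl⟩ := eq_smul_one x
  rw [smul_smul, smul_one_eq_zero] at hx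
  rw [show m = m - 1 + 1 by omega, pow_succ, Nat.add_sub_cancel, mul_dvd_mul_iff_left (pow_ne_zero _ hfi.ne_zero)] at hx
  obtain ⟨s, rfl⟩ := hx
  exact ⟨s • one' f m, mul_smul _ _ _⟩

lemma socle_of_ne_zero {f : F[X]} (hfi : Irreducible f) {m : ℕ} {x : blk (f, m)} (hx : x ≠ 0) :
    ∃ a : F[X], a • x = f ^ (m - 1) • one' f m := by
  obtain ⟨r, rfl⟩ := eq_smul_one x
  rw [Ne, smul_one_eq_zero] at hx
  have hex : ∃ j, ¬ f ^ (j + 1) ∣ r := ⟨m, fun h => hx ((pow_dvd_pow f (Nat.le_succ m)).trans h)⟩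
  classical
  obtain ⟨j, hj, hjmin⟩ : ∃ j, ¬ f ^ (j + 1) ∣ r ∧ ∀ i < j, f ^ (i + 1) ∣ r :=
    ⟨Nat.find hex, Nat.find_spec hex, fun i hi => not_not.1 (Nat.find_min hex hi)⟩
  have hdvd : f ^ j ∣ r := by
    rcases j with _ | i
    · simp
    · exact hjmin i (by omega)
  have hjm : j < m := by
    by_contra h
    exact hx ((pow_dvd_pow f (by omega)).trans hdvd)
  obtain ⟨s, rfl⟩ := hdvd
  have hs : ¬ f ∣ s := fun h => hj (by rw [pow_succ]; exact mul_dvd_mul_left _ h)
  obtain ⟨a, b, hab⟩ := (hfi.coprime_iff_not_dvd.2 hs).pow_left (m := m)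
  refine ⟨b * f ^ (m - 1 - j), ?_⟩
  rw [smul_smul, ← sub_eq_zero, ← sub_smul, smul_one_eq_zero]
  refine ⟨-(a * f ^ (m - 1)), ?_⟩
  have e : f ^ (m - 1 - j) * f ^ j = f ^ (m - 1) := by rw [← pow_add]; congr 1; omega
  linear_combination (f ^ (m - 1)) * hab + (b * s) * e

lemma eigen_pow {M : Type u} [AddCommGroup M] [Module F M] [Module F[X] M] [IsScalarTower F F[X] M] {ε : F}
    {z : M} (hz : (X : F[X]) • z = ε • z) (p : F[X]) : p • z = p.eval ε • z := by
  induction p using Polynomial.induction_on with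
  | C c => rw [C_smul', eval_C]
  | add a b ha hb => rw [add_smul, ha, hb, eval_add, add_smul]
  | monomial k c ih =>
    rw [pow_succ, ← mul_assoc, ← smul_smul, hz, smul_comm, ih, smul_smul, eval_mul (p := C c * X ^ k), eval_X,
      mul_comm]

lemma eigen_soc {M : Type u} [AddCommGroup M] [Module F M] [Module F[X] M] [IsScalarTower F F[X] M] {ε : F}
    {m : ℕ} (hm : 1 ≤ m) {x : M} (hx : (X - C ε) ^ m • x = 0) :
    (X : F[X]) • ((X - C ε) ^ (m - 1) • x) = ε • ((X - C ε) ^ (m - 1) • x) := by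
  rw [show m = (m - 1) + 1 by omega, pow_succ', ← smul_smul, sub_smul, C_smul', sub_eq_zero] at hx
  exact hx

lemma eps_pow {M : Type u} [AddCommGroup M] [Module F M] [Module F[X] M] [IsScalarTower F F[X] M] {ε : F}
    (hN : Period F M N) {z : M} (hz : (X : F[X]) • z = ε • z) (hz0 : z ≠ 0) : ε ^ N = 1 := by
  have h := eigen_pow hz (X ^ N)
  rw [hN.2, eval_pow, eval_X] at h
  have : (1 - ε ^ N) • z = 0 := by rw [sub_smul, one_smul, ← h, sub_self]
  exact (sub_eq_zero.1 ((smul_eq_zero.1 this).resolve_right hz0)).symm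

lemma coprime_dfac {h g : F[X]} (h0 : h.coeff 0 ≠ 0) (hg : Irreducible g) (hgX : ¬ g ∣ X) (k : ℕ) :
    IsCoprime (dfac h) (g ^ k) := by
  refine IsCoprime.pow_right (IsCoprime.mul_left ⟨C (h.coeff 0), 0, ?_⟩ (IsCoprime.pow_left ?_))
  · rw [zero_mul, add_zero, ← C_mul, mul_inv_cancel₀ h0, C_1]
  · exact (hg.coprime_iff_not_dvd.2 hgX).symm

lemma du_X_sub_C {ε : F} (hε : ε * ε = 1) : du (X - C ε) = X - C ε := by
  have h := X_sub_C_SR hε
  rw [du, h.2, mul_comm, ← mul_assoc, ← C_mul, inv_mul_cancel₀ h.coeff_ne, C_1, one_mul]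

lemma sig_lin (hN : Period F M N) {ε : F} (hε : ε * ε = 1) : ∀ (k : ℕ) (y : M),
    sig N (X - C ε) ^ k • y = ((X : F[X]) ^ (N - 1) * C (-ε)) ^ k • ((X - C ε) ^ k • y)
  | 0, y => by simp
  | k + 1, y => by
    have step : ∀ z : M, sig N (X - C ε) • z = ((X : F[X]) ^ (N - 1) * C (-ε)) • ((X - C ε) • z) := by
      intro z
      have e1 : (X : F[X]) ^ (N - 1) * X = X ^ N := by rw [← pow_succ]; congr 1; have := hN.1; omega
      rw [sig, sub_comp, X_comp, C_comp, smul_smul,
        show (X : F[X]) ^ (N - 1) * C (-ε) * (X - C ε) = C (-ε) * (X ^ (N - 1) * X) + X ^ (N - 1) * C (ε * ε) by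
          rw [map_neg, map_mul]; ring,
        e1, hε, C_1, mul_one, add_smul, ← smul_smul, hN.2, sub_smul, map_neg, neg_smul]
      abel
    rw [pow_succ, ← smul_smul, sig_lin hN hε k, step]
    simp only [smul_smul]
    congr 1
    ring

lemma sig_socle (hN : Period F M N) {ε : F} (hε : ε * ε = 1) {m : ℕ} (hm : 1 ≤ m) {x : M}
    (hx : (X - C ε) ^ m • x = 0) :
    sig N ((X - C ε) ^ (m - 1)) • x = (-1 : F) ^ (m - 1) • ((X - C ε) ^ (m - 1) • x) := by
  set z := (X - C ε) ^ (m - 1) • x with hz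
  rw [sig_pow, sig_lin hN hε, ← hz]
  rcases eq_or_ne z 0 with h0 | h0
  · rw [h0, smul_zero, smul_zero]
  · have hz1 := eigen_soc hm hx
    rw [← hz] at hz1
    have hεN := eps_pow hN hz1 h0
    rw [eigen_pow hz1, eval_pow, eval_mul, eval_pow, eval_X, eval_C]
    congr 1
    have e2 : ε ^ (N - 1) * ε = 1 := by rw [← pow_succ, show N - 1 + 1 = N by have := hN.1; omega, hεN]
    congr 1
    linear_combination (-1 : F) * e2

lemma IsInv.swap (hB : IsInv B) (hN : Period F M N) (p : F[X]) (x y : M) :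
    B x (p • y) = B (sig N p • x) y := by
  rw [hB.adj hN, sig_sig hN]

section cyclic

variable (hB : IsInv B) (hN : Period F M N)

include hB hN

/-- a partner of a top element -/
lemma exists_partner [Finite M] (hnd : Nondeg B) {f : F[X]} {m : ℕ} {u : M} (hu : f ^ m • u = 0)
    (hu' : f ^ (m - 1) • u ≠ 0) (hstab : ∀ x : M, du f ^ (m + 1) • x = 0 → du f ^ m • x = 0) :
    ∃ w, du f ^ m • w = 0 ∧ B (f ^ (m - 1) • u) w ≠ 0 := by
  obtain ⟨w, hw⟩ : ∃ w, B (f ^ (m - 1) • u) w ≠ 0 := by
    by_contra hall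
    push Not at hall
    exact hu' (hnd _ hall)
  set P : F[X] := du f ^ m with hP
  have hst : ∀ j (x : M), du f ^ (m + j) • x = 0 → du f ^ m • x = 0 := by
    intro j
    induction j with
    | zero => exact fun x hx => hx
    | succ j ih =>
      intro x hx
      refine hstab x ?_
      have := ih (du f • x) (by rw [smul_smul, ← pow_succ]; exact hx)
      rwa [smul_smul, ← pow_succ] at this
  let g : LinearMap.range (LinearMap.lsmul F[X] M P) → LinearMap.range (LinearMap.lsmul F[X] M P) :=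
    fun y => ⟨P • (y : M), ⟨(y : M), rfl⟩⟩
  have hg : Function.Injective g := by
    rintro ⟨_, a, rfl⟩ ⟨_, b, rfl⟩ h
    have h' : P • (P • a) = P • (P • b) := congrArg Subtype.val h
    refine Subtype.ext ?_
    show P • a = P • b
    rw [← sub_eq_zero, ← smul_sub, ← smul_sub, smul_smul, hP, ← pow_add] at h'
    rw [← sub_eq_zero, ← smul_sub, hP]
    exact hst m _ h'
  obtain ⟨⟨_, v, rfl⟩, hv⟩ := Finite.surjective_of_injective hg ⟨P • w, w, rfl⟩
  have hv' : P • (P • v) = P • w := congrArg Subtype.val hv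
  refine ⟨w - P • v, by rw [smul_sub, hv', sub_self], ?_⟩
  rw [map_sub, hB.ker_perp hN f m (x := f ^ (m - 1) • u) (by rw [smul_comm, hu, smul_zero]) v, sub_zero]
  exact hw

/-- existence of a non-degenerate cyclic piece -/
lemma exists_cyclic (h2 : (2 : F) ≠ 0) {f : F[X]} (hfm : f.Monic) (hfi : Irreducible f) (hdu : du f = f) {m : ℕ}
    (hm : 1 ≤ m) (hcase : ∀ ε : F, ε * ε = 1 → f = X - C ε → Even m) {u w : M} (hu : f ^ m • u = 0)
    (hw : f ^ m • w = 0) (huw : B (f ^ (m - 1) • u) w ≠ 0) :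
    ∃ u', f ^ m • u' = 0 ∧ ∃ r : F[X], B (r • f ^ (m - 1) • u') u' ≠ 0 := by
  by_contra hall
  push Not at hall
  obtain ⟨e, he⟩ : ∃ e, e = f ^ (m - 1) := ⟨_, rfl⟩
  rw [← he] at huw
  simp only [← he] at hall
  have hkey : ∀ (r : F[X]) (x y : M), f ^ m • x = 0 → f ^ m • y = 0 →
      B ((r * e) • x) y = B (sig N (r * e) • x) y := by
    intro r x y hx hy
    have h := hall (x + y) (by rw [smul_add, hx, hy, add_zero]) r
    simp only [smul_add, map_add, LinearMap.add_apply, hall x hx r, hall y hy r, zero_add, add_zero] at h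
    have e4 : B ((r * e) • x) y = B x ((r * e) • y) := by
      rw [← smul_smul, ← smul_smul, hB.skew x]; linear_combination h
    rw [e4, hB.swap hN]
  have hv : ∀ r : F[X], (r * e - sig N (r * e)) • u = 0 := by
    intro r
    by_contra hne
    set v := (r * e - sig N (r * e)) • u with hvdef
    have hperp : ∀ c : F[X], B v (c • w) = 0 := fun c => by
      rw [hvdef, sub_smul, map_sub, LinearMap.sub_apply, hkey r u (c • w) hu (by rw [smul_comm, hw, smul_zero]),
        sub_self]
    -- `v` lies in the socle of the cyclic module of `u`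
    have hfv : f • (sig N (r * e) • u) = 0 := by
      have hfe : f • (sig N e • u) = 0 := by
        have h1 : ∀ y : M, du (f ^ (m - 1)) • y = sig N e • (dfac (f ^ (m - 1)) • y) := fun y => by
          rw [du_smul hN, he]
        have hcu : IsCoprime (dfac (f ^ (m - 1))) (f ^ m) := by
          have hf0 : f.coeff 0 ≠ 0 := by
            intro h0
            have := congrArg (coeff · f.natDegree) hdu
            rw [coeff_du f le_rfl, h0, inv_zero, mul_zero, hfm.coeff_natDegree] at this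
            exact zero_ne_one this
          refine coprime_dfac (by rw [coeff_zero_eq_eval_zero, eval_pow, ← coeff_zero_eq_eval_zero]; exact pow_ne_zero _ hf0) hfi (fun hd => hf0 ?_) m
          rw [eq_of_monic_of_associated hfm monic_X (hfi.associated_of_dvd irreducible_X hd), coeff_X_zero]
        obtain ⟨a, b, hab⟩ := hcu
        have : u = dfac (f ^ (m - 1)) • (a • u) := by
          conv_lhs => rw [← one_smul F[X] u, ← hab, add_smul, ← smul_smul b, hu, smul_zero, add_zero, mul_comm,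
            ← smul_smul]
        rw [this, ← h1, du_pow, hdu, smul_smul, ← pow_succ', Nat.sub_add_cancel hm, smul_comm, hu, smul_zero]
      rw [sig_mul, ← smul_smul, smul_comm, hfe, smul_zero]
    have hfv' : f • v = 0 := by
      rw [hvdef, sub_smul, smul_sub, hfv, sub_zero, ← smul_smul r e, smul_comm f r, smul_smul f e, he, ← pow_succ',
        Nat.sub_add_cancel hm, hu, smul_zero]
    -- so it generates the socle
    obtain ⟨p, hp⟩ : ∃ p : F[X], v = p • u := ⟨_, rfl⟩
    have hpd : f ^ (m - 1) ∣ p := by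
      by_contra hnd'
      let x : blk (f, m) := (f * p) • one' f m
      have hx : x ≠ 0 := by
        rw [Ne, smul_one_eq_zero, show f ^ m = f * f ^ (m - 1) by rw [← pow_succ', Nat.sub_add_cancel hm],
          mul_dvd_mul_iff_left hfi.ne_zero]
        exact hnd'
      obtain ⟨a, ha⟩ := socle_of_ne_zero hfi hx
      have := congrArg (cyc u hu) ha
      simp only [x, map_smul, cyc_one, ← smul_smul] at this
      rw [← hp, hfv', smul_zero] at this
      exact huw (by rw [he, ← this, map_zero, LinearMap.zero_apply])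
    obtain ⟨a, rfl⟩ := hpd
    rw [← he] at hp
    have ha : ¬ f ∣ a := by
      rintro ⟨b, rfl⟩
      refine hne ?_
      rw [hp, he, ← mul_assoc, ← pow_succ, Nat.sub_add_cancel hm, mul_comm, ← smul_smul, hu, smul_zero]
    obtain ⟨c, d, hcd⟩ := hfi.coprime_iff_not_dvd.2 ha
    refine huw ?_
    have hev : e • u = d • v := by
      have h1 : (f * e) • u = 0 := by rw [he, ← pow_succ', Nat.sub_add_cancel hm, hu]
      calc e • u = ((c * f + d * a) * e) • u := by rw [hcd, one_mul]
        _ = c • ((f * e) • u) + d • ((e * a) • u) := by rw [smul_smul, smul_smul, ← add_smul]; congr 1; ring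
        _ = d • v := by rw [h1, smul_zero, zero_add, ← hp]
    rw [hev, hB.adj hN]
    exact hperp _
  have h1 : e • u = sig N e • u := by
    have := hv 1
    rwa [one_mul, sub_smul, sub_eq_zero] at this
  have hX : (X : F[X]) • (e • u) = (X : F[X]) ^ (N - 1) • (e • u) := by
    have := hv X
    rw [sub_smul, sub_eq_zero, sig_mul, ← smul_smul, ← smul_smul, ← h1] at this
    rwa [sig, X_comp] at this
  have hX2 : ((X : F[X]) ^ 2 - 1) • (e • u) = 0 := by
    rw [sub_smul, one_smul, sq, ← smul_smul, hX, smul_smul, ← pow_succ', Nat.sub_add_cancel (by have := hN.1; omega),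
      hN.2, sub_self]
  have heu : e • u ≠ 0 := fun h => huw (by rw [h, map_zero, LinearMap.zero_apply])
  have hfd : f ∣ (X : F[X]) ^ 2 - 1 := by
    by_contra hnd'
    obtain ⟨a, b, hab⟩ := hfi.coprime_iff_not_dvd.2 hnd'
    refine heu ?_
    rw [← one_smul F[X] (e • u), ← hab, add_smul, ← smul_smul, ← smul_smul, hX2, smul_smul f e, he, ← pow_succ',
      Nat.sub_add_cancel hm, hu, smul_zero, smul_zero, add_zero]
  obtain ⟨ε, hε, rfl⟩ : ∃ ε : F, ε * ε = 1 ∧ f = X - C ε := by
    have : f ∣ (X - C 1) * (X - C (-1)) := by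
      rwa [show (X - C (1 : F)) * (X - C (-1)) = X ^ 2 - 1 by rw [map_neg, C_1]; ring]
    rcases hfi.prime.dvd_or_dvd this with h | h
    · exact ⟨1, mul_one 1, eq_of_monic_of_associated hfm (monic_X_sub_C _) (hfi.associated_of_dvd (irreducible_X_sub_C _) h)⟩
    · exact ⟨-1, by ring, eq_of_monic_of_associated hfm (monic_X_sub_C _) (hfi.associated_of_dvd (irreducible_X_sub_C _) h)⟩
  obtain ⟨k, hk⟩ := hcase ε hε rfl
  have hs := sig_socle hN hε hm hu
  rw [← he, ← h1, Odd.neg_one_pow ⟨k - 1, by omega⟩, neg_one_smul] at hs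
  refine heu ((smul_eq_zero.1 (show (2 : F) • (e • u) = 0 by rw [two_smul]; exact eq_neg_iff_add_eq_zero.1 hs)).resolve_left h2)

/-- a cyclic piece -/
lemma nondeg_cyclic {f : F[X]} (hfi : Irreducible f) {m : ℕ} {u : M}
    (hu : f ^ m • u = 0) (r : F[X]) (hr : B (r • f ^ (m - 1) • u) u ≠ 0) : Nondeg (pull B (cyc u hu)) := by
  intro x hx
  by_contra hne
  obtain ⟨a, ha⟩ := socle_of_ne_zero hfi hne
  refine hr ?_
  have h := congrArg (cyc u hu) ha
  rw [map_smul, map_smul, cyc_one] at h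
  rw [← h, smul_smul, hB.adj hN]
  have := hx (sig N (r * a) • one' f m)
  rwa [pull_apply, map_smul (cyc u hu) (sig N (r * a)), cyc_one] at this

/-- a pair of totally isotropic cyclic modules -/
lemma nondeg_pair_ne {f : F[X]} (hfm : f.Monic) (h0 : f.coeff 0 ≠ 0) (hfi : Irreducible f) (hne : du f ≠ f)
    {m : ℕ} {u w : M} (hu : f ^ m • u = 0) (hw : du f ^ m • w = 0) (huw : B (f ^ (m - 1) • u) w ≠ 0) :
    Nondeg (pull B ((cyc u hu).coprod (cyc w hw))) := by
  have hdi := du_irreducible hfm h0 hfi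
  have hco : IsCoprime (du f) f := hdi.coprime_iff_not_dvd.2 fun h =>
    hne (eq_of_monic_of_associated (du_monic h0) hfm (hdi.associated_of_dvd hfi h))
  rintro ⟨x, y⟩ hxy
  by_cases hx : x = 0
  · subst hx
    by_contra hne'
    have hy : y ≠ 0 := fun h => hne' (by rw [h]; rfl)
    obtain ⟨a, ha⟩ := socle_of_ne_zero hdi hy
    have h := congrArg (cyc w hw) ha
    rw [map_smul, map_smul, cyc_one] at h
    -- the socle of `w` pairs with `u`
    have hrad : ∀ c : F[X], B (du f ^ (m - 1) • w) (c • u) = 0 := by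
      intro c
      have := hxy ((sig N a * c) • one' f m, 0)
      rw [pull_apply, LinearMap.coprod_apply, LinearMap.coprod_apply, map_zero, map_zero, zero_add, add_zero,
        map_smul, cyc_one, ← smul_smul, ← hB.adj hN] at this
      rwa [← h]
    have hcu : IsCoprime (dfac (f ^ (m - 1))) (du f ^ m) := by
      refine coprime_dfac (by rw [coeff_zero_eq_eval_zero, eval_pow, ← coeff_zero_eq_eval_zero]; exact pow_ne_zero _ h0) hdi (fun hd => inv_ne_zero h0 ?_) m
      rw [← du_coeff_zero hfm, eq_of_monic_of_associated (du_monic h0) monic_X (hdi.associated_of_dvd irreducible_X hd), coeff_X_zero]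
    obtain ⟨a', b', hab⟩ := hcu
    refine huw ?_
    have h3 : du f ^ (m - 1) • w = sig N (f ^ (m - 1)) • (dfac (f ^ (m - 1)) • w) := by
      rw [← du_pow, du_smul hN]
    have h4 : w = dfac (f ^ (m - 1)) • (a' • w) := by
      conv_lhs => rw [← one_smul F[X] w, ← hab, add_smul, ← smul_smul b', hw, smul_zero, add_zero, mul_comm,
        ← smul_smul]
    rw [h4, hB.adj hN, smul_smul (dfac _) a' w, mul_comm, ← smul_smul, smul_comm (sig N _) a', ← h3, hB.swap hN,
      hB.skew, neg_eq_zero]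
    exact hrad _
  · exfalso
    obtain ⟨a, ha⟩ := socle_of_ne_zero hfi hx
    have h := congrArg (cyc u hu) ha
    rw [map_smul, map_smul, cyc_one] at h
    refine huw ?_
    have := hxy (0, sig N a • one' (du f) m)
    rw [pull_apply, LinearMap.coprod_apply, LinearMap.coprod_apply, map_zero, zero_add, map_smul, cyc_one,
      ← hB.adj hN, smul_add, map_add, LinearMap.add_apply, h] at this
    have hyk : du f ^ m • (a • cyc w hw y) = 0 := by
      rw [smul_comm, ← map_smul (cyc w hw) (du f ^ m), blk_kill, map_zero, smul_zero]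
    rwa [hB.kill hN (f := du f) (h := du f) (a := m) (b := m)
      (by rw [du_du hfm h0]; exact hco.symm) hyk hw, add_zero] at this

/-- a pair for an eigenvalue `±1` and a part of odd size -/
lemma nondeg_pair_one (h2 : (2 : F) ≠ 0) {ε : F} (hε : ε * ε = 1) {m : ℕ} (hm : Odd m) {u w : M}
    (hu : (X - C ε) ^ m • u = 0) (hw : (X - C ε) ^ m • w = 0) (huw : B ((X - C ε) ^ (m - 1) • u) w = 1) :
    Nondeg (pull B ((cyc u hu).coprod (cyc w hw))) ∧
      B ((X - C ε) ^ (m - 1) • u) u = 0 ∧ B ((X - C ε) ^ (m - 1) • w) w = 0 ∧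
      B ((X - C ε) ^ (m - 1) • w) u = -1 := by
  have hm1 : 1 ≤ m := hm.pos
  have hev : Even (m - 1) := Nat.Odd.sub_odd hm odd_one
  have hsym : ∀ x y : M, (X - C ε) ^ m • y = 0 →
      B ((X - C ε) ^ (m - 1) • x) y = B x ((X - C ε) ^ (m - 1) • y) := by
    intro x y hy
    rw [hB.adj hN, sig_socle hN hε hm1 hy, hev.neg_one_pow, one_smul]
  have hzero : ∀ x : M, (X - C ε) ^ m • x = 0 → B ((X - C ε) ^ (m - 1) • x) x = 0 := by
    intro x hx
    have h := hsym x x hx
    rw [hB.skew x] at h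
    exact (mul_eq_zero.1 (show B ((X - C ε) ^ (m - 1) • x) x * 2 = 0 by linear_combination h)).resolve_right h2
  have hwu : B ((X - C ε) ^ (m - 1) • w) u = -1 := by rw [hsym w u hu, hB.skew, huw]
  refine ⟨fun z hz => ?_, hzero u hu, hzero w hw, hwu⟩
  obtain ⟨x, y⟩ := z
  have hfi : Irreducible (X - C ε) := irreducible_X_sub_C ε
  have hrad : ∀ (a : F[X]) t, B (a • (cyc u hu x + cyc w hw y)) t = 0 ∨
      ¬ ∃ p, t = (cyc u hu).coprod (cyc w hw) p := by
    intro a t
    by_cases ht : ∃ p, t = (cyc u hu).coprod (cyc w hw) p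
    · obtain ⟨p, rfl⟩ := ht
      left
      rw [hB.adj hN, ← map_smul]
      exact hz _
    · exact Or.inr ht
  have hu1 : ∀ (a : F[X]), B (a • (cyc u hu x + cyc w hw y)) u = 0 := fun a =>
    (hrad a u).resolve_right fun h => h ⟨(one' _ _, 0), by rw [LinearMap.coprod_apply, cyc_one, map_zero, add_zero]⟩
  have hw1 : ∀ (a : F[X]), B (a • (cyc u hu x + cyc w hw y)) w = 0 := fun a =>
    (hrad a w).resolve_right fun h => h ⟨(0, one' _ _), by rw [LinearMap.coprod_apply, cyc_one, map_zero, zero_add]⟩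
  have hkey : ∀ a : F[X], (X - C ε) • (a • y) ≠ 0 → (X - C ε) • (a • x) = 0 → False := by
    intro a ha hax
    obtain ⟨c, hc⟩ := socle_of_ne_zero hfi ha
    have h := congrArg (cyc w hw) hc
    simp only [map_smul, cyc_one] at h
    have h' := hu1 (c * ((X - C ε) * a))
    rw [smul_add, ← map_smul (cyc u hu), ← smul_smul c, ← smul_smul (X - C ε) a, hax, smul_zero, map_zero, zero_add,
      ← smul_smul c, ← smul_smul (X - C ε) a, h, hwu] at h'
    exact neg_ne_zero.2 one_ne_zero h'
  by_cases hx : x = 0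
  · subst hx
    by_contra hne
    have hy : y ≠ 0 := fun h => hne (by rw [h]; rfl)
    obtain ⟨c, hc⟩ := socle_of_ne_zero hfi hy
    have h := congrArg (cyc w hw) hc
    rw [map_smul, map_smul, cyc_one] at h
    have h' := hu1 c
    rw [map_zero, zero_add, h, hwu] at h'
    exact neg_ne_zero.2 one_ne_zero h'
  · exfalso
    obtain ⟨a, ha⟩ := socle_of_ne_zero hfi hx
    have hax : (X - C ε) • (a • x) = 0 := by
      rw [ha, smul_smul, smul_one_eq_zero, ← pow_succ', Nat.sub_add_cancel hm1]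
    by_cases hay : (X - C ε) • (a • y) = 0
    · obtain ⟨s, hs⟩ := eq_smul_one (a • y)
      rw [hs, smul_smul, smul_one_eq_zero] at hay
      conv at hay => lhs; rw [show m = m - 1 + 1 by omega, pow_succ']
      rw [mul_dvd_mul_iff_left hfi.ne_zero] at hay
      obtain ⟨s', rfl⟩ := hay
      have h' := hw1 a
      rw [smul_add, ← map_smul (cyc u hu), ← map_smul (cyc w hw), ha, hs, map_smul, map_smul, cyc_one, cyc_one,
        map_add, LinearMap.add_apply, huw, mul_comm, ← smul_smul, eigen_pow (eigen_soc hm1 hw), map_smul,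
        LinearMap.smul_apply, hzero w hw, smul_zero, add_zero] at h'
      exact one_ne_zero h'
    · exact hkey a hay hax

end cyclic

end SpClassCount2482
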