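import Mathlib
import Cfsg.Agent.SpClassCount.Models

/-!
Normal forms of the pieces.
-/

set_option autoImplicit false
set_option linter.unusedSectionVars false

universe u

namespace SpClassCount2482

open Polynomial Module GLClassCount2478 SUClassCount2481 Cfsg.Agent.Classical

variable {F : Type u} [Field F] [Finite F] {N : ℕ}

section op

variable {N' : Type u} [AddCommGroup N'] [Module F N'] [Module F[X] N'] [IsScalarTower F F[X] N'] [Finite N']
  {B₁ B₂ : N' →ₗ[F] N' →ₗ[F] F}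

/-- one form through the other -/
lemma exists_op (h₁ : IsInv B₁) (h₂ : IsInv B₂) (hnd : Nondeg B₁) (hN : Period F N' N) :
    ∃ T : N' →ₗ[F[X]] N', (∀ x y, B₁ (T x) y = B₂ x y) ∧ (∀ x y, B₁ (T x) y = B₁ x (T y)) := by
  haveI : Module.Finite F N' := Module.Finite.of_finite
  have hinj : Function.Injective B₁ := by
    intro a b hab
    refine sub_eq_zero.1 (hnd _ fun y => ?_)
    rw [map_sub, LinearMap.sub_apply, hab, sub_self]
  let D₁ : N' ≃ₗ[F] Module.Dual F N' := LinearEquiv.ofBijective B₁ ⟨hinj,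
    (LinearMap.injective_iff_surjective_of_finrank_eq_finrank Subspace.dual_finrank_eq.symm).1 hinj⟩
  have hD : ∀ x y, B₁ (D₁.symm (B₂ x)) y = B₂ x y := fun x y =>
    LinearMap.congr_fun (D₁.apply_symm_apply (B₂ x)) y
  refine ⟨{ toFun := fun x => D₁.symm (B₂ x)
            map_add' := fun x y => by rw [map_add, map_add]
            map_smul' := fun p x => hinj (LinearMap.ext fun y => by
              rw [RingHom.id_apply, hD, h₂.adj hN, h₁.adj hN, hD]) }, hD, fun x y => ?_⟩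
  show B₁ (D₁.symm (B₂ x)) y = B₁ x (D₁.symm (B₂ y))
  rw [hD, h₂.skew, h₁.skew x, hD]

end op

variable {f : F[X]} {m : ℕ}

lemma finite_blk (hf : f.Monic) : Finite (blk (f, m)) := by
  haveI : Module.Finite F (blk (f, m)) := (hf.pow m).finite_quotient
  exact Module.finite_of_finite F

/-- cyclic pieces without fixed residues -/
theorem iso_cyclic_gen (hfm : f.Monic) (h0 : f.coeff 0 ≠ 0) (hfi : Irreducible f) (hdu : du f = f)
    (hX2 : ¬ f ∣ X ^ 2 - 1) {B₁ B₂ : blk (f, m) →ₗ[F] blk (f, m) →ₗ[F] F} (h₁ : IsInv B₁) (h₂ : IsInv B₂)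
    (hn₁ : Nondeg B₁) (hn₂ : Nondeg B₂) (hN : Period F (blk (f, m)) N) :
    ∃ φ : blk (f, m) →ₗ[F[X]] blk (f, m), ∀ x y, B₁ (φ x) (φ y) = B₂ x y := by
  haveI := finite_blk (m := m) hfm
  obtain ⟨T, hT, hTs⟩ := exists_op h₁ h₂ hn₁ hN
  obtain ⟨h', hh'⟩ := eq_smul_one (T (one' f m))
  have hTx : ∀ x, T x = h' • x := fun x => by
    obtain ⟨r, rfl⟩ := eq_smul_one x
    rw [map_smul, hh', smul_comm]
  let I : Ideal F[X] := Ideal.span {f ^ m}
  have hmk : ∀ r s : F[X], Ideal.Quotient.mk I r = Ideal.Quotient.mk I s ↔ r • one' f m = s • one' f m := by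
    intro r s
    rw [Ideal.Quotient.eq, ← sub_eq_zero (a := r • one' f m), ← sub_smul, smul_one_eq_zero,
      Ideal.mem_span_singleton]
  have hsigI : ∀ a ∈ I, (Ideal.Quotient.mk I).comp (compRingHom (X ^ (N - 1))) a = 0 := by
    intro a ha
    obtain ⟨b, rfl⟩ := Ideal.mem_span_singleton.1 ha
    show Ideal.Quotient.mk I ((f ^ m * b).comp (X ^ (N - 1))) = 0
    rw [mul_comp, map_mul, show Ideal.Quotient.mk I ((f ^ m).comp (X ^ (N - 1))) = 0 from ?_, zero_mul]
    rw [← map_zero (Ideal.Quotient.mk I), hmk, zero_smul]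
    have hcu : IsCoprime (dfac (f ^ m)) (f ^ m) := by
      refine coprime_dfac (by rw [coeff_zero_eq_eval_zero, eval_pow, ← coeff_zero_eq_eval_zero]; exact pow_ne_zero _ h0) hfi (fun hd => h0 ?_) m
      rw [eq_of_monic_of_associated hfm monic_X (hfi.associated_of_dvd irreducible_X hd), coeff_X_zero]
    obtain ⟨a', b', hab⟩ := hcu
    have : one' f m = dfac (f ^ m) • (a' • one' f m) := by
      conv_lhs => rw [← one_smul F[X] (one' f m), ← hab, add_smul, ← smul_smul b', blk_kill, smul_zero, add_zero,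
        mul_comm, ← smul_smul]
    show sig N (f ^ m) • one' f m = 0
    rw [this, ← du_smul hN, du_pow, hdu, blk_kill]
  let σ : F[X] ⧸ I →+* F[X] ⧸ I := Ideal.Quotient.lift I ((Ideal.Quotient.mk I).comp (compRingHom (X ^ (N - 1)))) hsigI
  have hσmk : ∀ r : F[X], σ (Ideal.Quotient.mk I r) = Ideal.Quotient.mk I (sig N r) := fun r => rfl
  have hσ : ∀ x, σ (σ x) = x := by
    intro x
    obtain ⟨r, rfl⟩ := Ideal.Quotient.mk_surjective x
    rw [hσmk, hσmk, hmk]
    exact sig_sig hN r _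
  haveI : Finite (F[X] ⧸ I) := finite_blk (m := m) hfm
  have hsym : σ (Ideal.Quotient.mk I h') = Ideal.Quotient.mk I h' := by
    rw [hσmk, hmk, ← hTx, ← sub_eq_zero]
    refine hn₁ _ fun y => ?_
    rw [map_sub, LinearMap.sub_apply, hTs (one' f m) y, hTx y, h₁.swap hN, sub_self]
  have hunit : IsUnit (Ideal.Quotient.mk I h') := by
    have hinj : Function.Injective T := by
      intro a b hab
      refine sub_eq_zero.1 (hn₂ _ fun y => ?_)
      rw [← hT, map_sub, hab, sub_self, map_zero, LinearMap.zero_apply]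
    obtain ⟨z, hz⟩ := Finite.surjective_of_injective hinj (one' f m)
    obtain ⟨r, rfl⟩ := eq_smul_one z
    refine IsUnit.of_mul_eq_one (Ideal.Quotient.mk I r) ?_
    rw [← map_mul, ← map_one (Ideal.Quotient.mk I), hmk, one_smul, mul_comm, ← smul_smul, ← hh', ← map_smul]
    exact hz
  obtain ⟨y, -, hy⟩ := NormSurj.exists_norm σ hσ (fun P hP _ => by
    refine ⟨Ideal.Quotient.mk I X, fun hmem => ?_⟩
    rw [hσmk, ← map_sub] at hmem
    have hfP : Ideal.Quotient.mk I f ∈ P := by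
      refine hP.isPrime.mem_of_pow_mem m ?_
      rw [← map_pow, Ideal.Quotient.eq_zero_iff_mem.2 (Ideal.mem_span_singleton_self _)]
      exact P.zero_mem
    have hXP : Ideal.Quotient.mk I (X ^ 2 - 1) ∈ P := by
      have e : Ideal.Quotient.mk I (X ^ 2 - 1) = Ideal.Quotient.mk I (X * (X - sig N X)) := by
        rw [hmk, sig, X_comp, mul_sub, ← pow_succ', show N - 1 + 1 = N by have := hN.1; omega, sub_smul, sub_smul,
          hN.2, one_smul, sq]
      rw [e, map_mul]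
      exact P.mul_mem_left _ hmem
    obtain ⟨a, b, hab⟩ := hfi.coprime_iff_not_dvd.2 hX2
    refine hP.ne_top ((Ideal.eq_top_iff_one _).2 ?_)
    rw [← map_one (Ideal.Quotient.mk I), ← hab, map_add, map_mul, map_mul]
    exact P.add_mem (P.mul_mem_left _ hfP) (P.mul_mem_left _ hXP)) _ hunit hsym
  obtain ⟨c, rfl⟩ := Ideal.Quotient.mk_surjective y
  rw [hσmk, ← map_mul, hmk] at hy
  refine ⟨LinearMap.lsmul F[X] _ c, fun x z => ?_⟩
  show B₁ (c • x) (c • z) = _
  rw [h₁.swap hN, smul_smul, ← hT, hTx]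
  obtain ⟨r, rfl⟩ := eq_smul_one x
  rw [smul_comm h' r, ← hy, mul_comm c, smul_comm r]

/-- values on the socle of a cyclic piece for an eigenvalue -/
lemma soc_value {M : Type u} [AddCommGroup M] [Module F M] [Module F[X] M] [IsScalarTower F F[X] M]
    {B : M →ₗ[F] M →ₗ[F] F} (hB : IsInv B) (hN : Period F M N) {ε : F} (hm : 1 ≤ m) {u v : M}
    (hu : (X - C ε) ^ m • u = 0) (r t : F[X]) :
    B ((X - C ε) ^ (m - 1) • (r • u)) (t • v) = (sig N t * r).eval ε * B ((X - C ε) ^ (m - 1) • u) v := by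
  rw [hB.swap hN, smul_comm _ r, smul_smul, eigen_pow (eigen_soc hm hu), map_smul, LinearMap.smul_apply,
    smul_eq_mul]

/-- cyclic pieces for an eigenvalue -/
theorem iso_cyclic_one (h2 : (2 : F) ≠ 0) {ε : F} (hm : 1 ≤ m)
    {B₁ B₂ : blk (X - C ε, m) →ₗ[F] blk (X - C ε, m) →ₗ[F] F} (h₁ : IsInv B₁) (h₂ : IsInv B₂)
    (hn₁ : Nondeg B₁) (hN : Period F (blk (X - C ε, m)) N) {d : F} (hd : d ≠ 0)
    (hval : B₂ ((X - C ε) ^ (m - 1) • one' _ m) (one' _ m) = d * d * B₁ ((X - C ε) ^ (m - 1) • one' _ m) (one' _ m)) :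
    ∃ φ : blk (X - C ε, m) →ₗ[F[X]] blk (X - C ε, m), ∀ x y, B₁ (φ x) (φ y) = B₂ x y := by
  haveI := finite_blk (m := m) (monic_X_sub_C ε)
  let φ₀ : blk (X - C ε, m) →ₗ[F[X]] blk (X - C ε, m) := LinearMap.lsmul F[X] _ (C d)
  have hkey : ∀ z, φ₀ z = d • z := fun z => C_smul' d z
  have hφ₀ : Function.Bijective φ₀ := by
    refine ⟨fun a b h => ?_, fun b => ⟨d⁻¹ • b, ?_⟩⟩
    · rw [hkey, hkey] at h
      exact smul_right_injective _ hd h
    · rw [hkey, smul_smul, mul_inv_cancel₀ hd, one_smul]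
  obtain ⟨ψ, hψ⟩ := congr_of_socle h2 (h₁.pull φ₀) h₂ (hn₁.pull_equiv hφ₀) hN (X - C ε) m hm blk_kill
    (blk_ker (irreducible_X_sub_C ε) hm) (fun x y => by
      obtain ⟨r, rfl⟩ := eq_smul_one x
      obtain ⟨t, rfl⟩ := eq_smul_one y
      rw [soc_value (h₁.pull φ₀) hN hm (blk_kill _), soc_value h₂ hN hm (blk_kill _), hval]
      congr 1
      rw [pull_apply, hkey, hkey, map_smul, map_smul, LinearMap.smul_apply, smul_eq_mul, smul_eq_mul, ← mul_assoc])
  exact ⟨φ₀.comp ψ, fun x y => hψ x y⟩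

/-- pairs of isotropic pieces -/
theorem iso_pair_ne (hfm : f.Monic) (h0 : f.coeff 0 ≠ 0) (hfi : Irreducible f) (hne : du f ≠ f)
    {B₁ B₂ : blk (f, m) × blk (du f, m) →ₗ[F] blk (f, m) × blk (du f, m) →ₗ[F] F} (h₁ : IsInv B₁) (h₂ : IsInv B₂)
    (hn₁ : Nondeg B₁) (hN : Period F (blk (f, m) × blk (du f, m)) N) :
    ∃ φ : blk (f, m) × blk (du f, m) →ₗ[F[X]] blk (f, m) × blk (du f, m), ∀ x y, B₁ (φ x) (φ y) = B₂ x y := by
  haveI := finite_blk (m := m) hfm
  haveI := finite_blk (m := m) (du_monic h0)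
  obtain ⟨T, hT, -⟩ := exists_op h₁ h₂ hn₁ hN
  have hdi := du_irreducible hfm h0 hfi
  have hco : IsCoprime (du f) f := hdi.coprime_iff_not_dvd.2 fun h =>
    hne (eq_of_monic_of_associated (du_monic h0) hfm (hdi.associated_of_dvd hfi h))
  obtain ⟨h', hh'⟩ := eq_smul_one (T (one' f m, 0)).1
  have hsnd : (T (one' f m, 0)).2 = 0 := by
    have h1 : f ^ m • (T (one' f m, 0)).2 = 0 := by
      rw [← Prod.smul_snd, ← map_smul, Prod.smul_mk, blk_kill, smul_zero, ← Prod.zero_eq_mk, map_zero, Prod.snd_zero]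
    obtain ⟨a, b, hab⟩ := hco.pow (m := m) (n := m)
    rw [← one_smul F[X] (T (one' f m, 0)).2, ← hab, add_smul, ← smul_smul, ← smul_smul, h1, blk_kill, smul_zero,
      smul_zero, add_zero]
  have hTa : ∀ a : blk (f, m), T (a, 0) = (h' • a, 0) := fun a => by
    obtain ⟨r, rfl⟩ := eq_smul_one a
    rw [show ((r • one' f m, 0) : blk (f, m) × blk (du f, m)) = r • (one' f m, 0) by rw [Prod.smul_mk, smul_zero],
      map_smul, show T (one' f m, 0) = (h' • one' f m, 0) from Prod.ext hh' hsnd, Prod.smul_mk, smul_zero, smul_comm]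
  have exp : ∀ B : blk (f, m) × blk (du f, m) →ₗ[F] blk (f, m) × blk (du f, m) →ₗ[F] F, IsInv B →
      ∀ a b a' b', B (a, b) (a', b') = B (a, 0) (0, b') - B (a', 0) (0, b) := by
    intro B hB a b a' b'
    have h1 : B (a, 0) (a', 0) = 0 := hB.kill hN hco (a := m) (b := m)
      (by rw [Prod.smul_mk, blk_kill, smul_zero]; rfl) (by rw [Prod.smul_mk, blk_kill, smul_zero]; rfl)
    have h2 : B (0, b) (0, b') = 0 := hB.kill hN (f := du f) (h := du f) (a := m) (b := m)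
      (by rw [du_du hfm h0]; exact hco.symm)
      (by rw [Prod.smul_mk, blk_kill, smul_zero]; rfl) (by rw [Prod.smul_mk, blk_kill, smul_zero]; rfl)
    rw [show ((a, b) : blk (f, m) × blk (du f, m)) = (a, 0) + (0, b) by rw [Prod.mk_add_mk, add_zero, zero_add],
      show ((a', b') : blk (f, m) × blk (du f, m)) = (a', 0) + (0, b') by rw [Prod.mk_add_mk, add_zero, zero_add],
      map_add]
    simp only [map_add, LinearMap.add_apply, h1, h2, hB.skew (0, b) (a', 0)]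
    ring
  refine ⟨(LinearMap.lsmul F[X] _ h').prodMap LinearMap.id, ?_⟩
  rintro ⟨a, b⟩ ⟨a', b'⟩
  show B₁ (h' • a, b) (h' • a', b') = _
  rw [exp B₁ h₁, exp B₂ h₂, ← hT, ← hT, hTa, hTa]

/-- pairs for an eigenvalue -/
theorem iso_pair_one (h2 : (2 : F) ≠ 0) {ε : F} (hm : 1 ≤ m)
    {B₁ B₂ : blk (X - C ε, m) × blk (X - C ε, m) →ₗ[F] blk (X - C ε, m) × blk (X - C ε, m) →ₗ[F] F}
    (h₁ : IsInv B₁) (h₂ : IsInv B₂) (hn₁ : Nondeg B₁) (hN : Period F (blk (X - C ε, m) × blk (X - C ε, m)) N)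
    (hv₁ : B₁ ((X - C ε) ^ (m - 1) • (one' _ m, 0)) (one' _ m, 0) = B₂ ((X - C ε) ^ (m - 1) • (one' _ m, 0)) (one' _ m, 0))
    (hv₂ : B₁ ((X - C ε) ^ (m - 1) • (one' _ m, 0)) (0, one' _ m) = B₂ ((X - C ε) ^ (m - 1) • (one' _ m, 0)) (0, one' _ m))
    (hv₃ : B₁ ((X - C ε) ^ (m - 1) • (0, one' _ m)) (one' _ m, 0) = B₂ ((X - C ε) ^ (m - 1) • (0, one' _ m)) (one' _ m, 0))
    (hv₄ : B₁ ((X - C ε) ^ (m - 1) • (0, one' _ m)) (0, one' _ m) = B₂ ((X - C ε) ^ (m - 1) • (0, one' _ m)) (0, one' _ m)) :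
    ∃ φ : blk (X - C ε, m) × blk (X - C ε, m) →ₗ[F[X]] blk (X - C ε, m) × blk (X - C ε, m),
      ∀ x y, B₁ (φ x) (φ y) = B₂ x y := by
  haveI := finite_blk (m := m) (monic_X_sub_C ε)
  refine congr_of_socle h2 h₁ h₂ hn₁ hN (X - C ε) m hm (fun x => Prod.ext (blk_kill _) (blk_kill _))
    (fun x hx => ?_) fun x y => ?_
  · obtain ⟨a, ha⟩ := blk_ker (irreducible_X_sub_C ε) hm x.1 (congrArg Prod.fst hx)
    obtain ⟨b, hb⟩ := blk_ker (irreducible_X_sub_C ε) hm x.2 (congrArg Prod.snd hx)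
    exact ⟨(a, b), Prod.ext ha hb⟩
  · obtain ⟨a, b⟩ := x
    obtain ⟨a', b'⟩ := y
    obtain ⟨r, rfl⟩ := eq_smul_one a
    obtain ⟨s, rfl⟩ := eq_smul_one b
    obtain ⟨r', rfl⟩ := eq_smul_one a'
    obtain ⟨s', rfl⟩ := eq_smul_one b'
    have e : ∀ p t : F[X], ((p • one' (X - C ε) m, t • one' (X - C ε) m) : blk (X - C ε, m) × blk (X - C ε, m)) =
        p • (one' _ m, 0) + t • (0, one' _ m) := fun p t => by
      rw [Prod.smul_mk, Prod.smul_mk, smul_zero, smul_zero, Prod.mk_add_mk, add_zero, zero_add]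
    have k1 : (X - C ε) ^ m • ((one' _ m, 0) : blk (X - C ε, m) × blk (X - C ε, m)) = 0 :=
      Prod.ext (blk_kill _) (blk_kill _)
    have k2 : (X - C ε) ^ m • ((0, one' _ m) : blk (X - C ε, m) × blk (X - C ε, m)) = 0 :=
      Prod.ext (blk_kill _) (blk_kill _)
    simp only [e, smul_add, map_add, LinearMap.add_apply, soc_value h₁ hN hm k1, soc_value h₁ hN hm k2,
      soc_value h₂ hN hm k1, soc_value h₂ hN hm k2, hv₁, hv₂, hv₃, hv₄]

end SpClassCount2482
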