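import Mathlib
import Cfsg.Agent.SpClassCount.Normal

/-!
Isometry classes with given module data.
-/

set_option autoImplicit false
set_option linter.unusedSectionVars false

universe u

namespace SpClassCount2482

open Polynomial Module GLClassCount2478 SUClassCount2481

variable {F : Type u} [Field F] [Finite F]

/-- modules with non-degenerate invariant alternating forms -/
structure SObj (F : Type u) [Field F] : Type (u + 1) where
  M : Type u
  [acg : AddCommGroup M]
  [modF : Module F M]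
  [modX : Module F[X] M]
  [tow : IsScalarTower F F[X] M]
  [fin : Finite M]
  B : M →ₗ[F] M →ₗ[F] F
  inv : IsInv B
  nd : Nondeg B

attribute [instance] SObj.acg SObj.modF SObj.modX SObj.tow SObj.fin

/-- isometric objects -/
def Isom (X Y : SObj F) : Prop := ∃ e : X.M ≃ₗ[F[X]] Y.M, ∀ a b, Y.B (e a) (e b) = X.B a b

lemma exists_period (X : SObj F) : ∃ N, Period F X.M N := by
  classical
  let g : X.M → X.M := fun x => (Polynomial.X : F[X]) • x
  have hg : Function.Injective g := by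
    intro a b h
    refine sub_eq_zero.1 (X.nd _ fun y => ?_)
    rw [← X.inv.inv, smul_sub, show (Polynomial.X : F[X]) • a = (Polynomial.X : F[X]) • b from h, sub_self, map_zero,
      LinearMap.zero_apply]
  let σ : Equiv.Perm X.M := Equiv.ofBijective g (Finite.injective_iff_bijective.1 hg)
  refine ⟨2 * orderOf σ, by have := orderOf_pos σ; omega, fun x => ?_⟩
  have h : ∀ k (x : X.M), (Polynomial.X : F[X]) ^ k • x = (σ ^ k) x := by
    intro k
    induction k with
    | zero => intro x; rw [pow_zero, one_smul, pow_zero]; rfl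
    | succ k ih => intro x; rw [pow_succ, ← smul_smul, ih, pow_succ, Equiv.Perm.mul_apply]; rfl
  rw [h, mul_comm, pow_mul, pow_orderOf_eq_one, one_pow]
  rfl

/-- product of the parts of size `k` -/
noncomputable def prodk (D : Multiset (F[X] × ℕ)) (k : ℕ) : F[X] :=
  ((D.filter fun x => x.2 = k).map Prod.fst).prod

lemma prodk_add (D E : Multiset (F[X] × ℕ)) (k : ℕ) : prodk (D + E) k = prodk D k * prodk E k := by
  rw [prodk, prodk, prodk, Multiset.filter_add, Multiset.map_add, Multiset.prod_add]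

/-- the necessary conditions -/
def Good (D : Multiset (F[X] × ℕ)) : Prop :=
  ∀ k, SR (prodk D k) ∧ (Odd k → Even (prodk D k).natDegree ∧ (prodk D k).coeff 0 = 1)

lemma Good.add {D E : Multiset (F[X] × ℕ)} (hD : Good D) (hE : Good E) : Good (D + E) := by
  intro k
  obtain ⟨h1, h2⟩ := hD k
  obtain ⟨h3, h4⟩ := hE k
  refine ⟨by rw [prodk_add]; exact h1.mul h3, fun hk => ?_⟩
  rw [prodk_add, h1.1.natDegree_mul h3.1, mul_coeff_zero, (h2 hk).2, (h4 hk).2, mul_one]
  exact ⟨(h2 hk).1.add (h4 hk).1, rfl⟩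

lemma good_of_parts {D : Multiset (F[X] × ℕ)} {m : ℕ} (hm : ∀ x ∈ D, x.2 = m) (hSR : SR (D.map Prod.fst).prod)
    (hodd : Odd m → Even (D.map Prod.fst).prod.natDegree ∧ (D.map Prod.fst).prod.coeff 0 = 1) : Good D := by
  intro k
  by_cases hk : k = m
  · subst hk
    rw [prodk, Multiset.filter_eq_self.2 hm]
    exact ⟨hSR, hodd⟩
  · have : prodk D k = 1 := by
      rw [prodk, Multiset.filter_eq_nil.2 fun x hx h => hk (h.symm.trans (hm x hx))]
      rfl
    rw [this]
    exact ⟨SR_one, fun _ => ⟨by simp, coeff_one_zero⟩⟩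

/-- the parts admitting two forms -/
noncomputable def spA (D : Multiset (F[X] × ℕ)) : Finset (F[X] × ℕ) := by
  classical
  exact D.toFinset.filter fun x => (x.1 = Polynomial.X - C 1 ∨ x.1 = Polynomial.X - C (-1)) ∧ Even x.2

/-- the number of classes -/
noncomputable def W (D : Multiset (F[X] × ℕ)) : ℕ := 2 ^ (spA D).card

lemma W_le (D E : Multiset (F[X] × ℕ)) : W E ≤ W (D + E) := by
  classical
  refine Nat.pow_le_pow_right two_pos (Finset.card_le_card fun x hx => ?_)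
  simp only [spA, Finset.mem_filter, Multiset.mem_toFinset, Multiset.mem_add] at hx ⊢
  exact ⟨Or.inr hx.1, hx.2⟩

lemma W_two_mul {f : F[X]} {m : ℕ} (E : Multiset (F[X] × ℕ)) (hf : f = Polynomial.X - C 1 ∨ f = Polynomial.X - C (-1))
    (hm : Even m) (hE : (f, m) ∉ E) : 2 * W E ≤ W (({(f, m)} : Multiset (F[X] × ℕ)) + E) := by
  classical
  rw [W, W, ← pow_succ']
  refine Nat.pow_le_pow_right two_pos ?_
  rw [← Finset.card_insert_of_notMem (s := spA E) (a := (f, m))]
  · refine Finset.card_le_card fun x hx => ?_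
    simp only [spA, Finset.mem_insert, Finset.mem_filter, Multiset.mem_toFinset, Multiset.mem_add,
      Multiset.mem_singleton] at hx ⊢
    rcases hx with rfl | hx
    · exact ⟨Or.inl rfl, hf, hm⟩
    · exact ⟨Or.inr hx.1, hx.2⟩
  · simp only [spA, Finset.mem_filter, Multiset.mem_toFinset]
    exact fun h => hE h.1

/-- splitting off a non-degenerate submodule -/
theorem exists_split (X : SObj F) {N' : Type u} [AddCommGroup N'] [Module F N'] [Module F[X] N']
    [IsScalarTower F F[X] N'] (φ : N' →ₗ[F[X]] X.M) (hφ : Nondeg (pull X.B φ)) :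
    ∃ (Y : SObj F) (Φ : (N' × Y.M) ≃ₗ[F[X]] X.M), (∀ a, Φ (a, 0) = φ a) ∧
      ∀ a b, X.B (Φ a) (Φ b) = pull X.B φ a.1 b.1 + Y.B a.2 b.2 := by
  obtain ⟨N, hN⟩ := exists_period X
  haveI : Finite N' := Finite.of_injective _ (injective_of_nondeg hφ)
  haveI : Module.Finite F N' := Module.Finite.of_finite
  let Q : Submodule F[X] X.M :=
    { carrier := {y | ∀ a, X.B (φ a) y = 0}
      add_mem' := fun {y z} hy hz a => by rw [map_add, hy a, hz a, add_zero]
      zero_mem' := fun a => map_zero _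
      smul_mem' := fun p {y} hy a => by rw [X.inv.swap hN, ← map_smul]; exact hy _ }
  let L : (N' × Q) →ₗ[F[X]] X.M := φ.coprod Q.subtype
  have hortho : ∀ a b : N' × Q, X.B (L a) (L b) = pull X.B φ a.1 b.1 + pull X.B Q.subtype a.2 b.2 := by
    intro a b
    have e1 : X.B (φ a.1) (b.2 : X.M) = 0 := b.2.2 _
    have e2 : X.B (a.2 : X.M) (φ b.1) = 0 := by rw [X.inv.skew, a.2.2 b.1, neg_zero]
    simp only [L, LinearMap.coprod_apply, Submodule.coe_subtype, map_add, LinearMap.add_apply, pull_apply, e1, e2]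
    ring
  have hinj : Function.Injective L := by
    rw [← LinearMap.ker_eq_bot, LinearMap.ker_eq_bot']
    rintro ⟨a, y⟩ h
    have h' : φ a + (y : X.M) = 0 := h
    have ha : a = 0 := hφ _ fun b => by
      rw [pull_apply, X.inv.skew]
      have := y.2 b
      rw [eq_neg_of_add_eq_zero_right h', map_neg, neg_eq_zero] at this
      rw [this, neg_zero]
    subst ha
    rw [map_zero, zero_add] at h'
    exact Prod.ext rfl (Subtype.ext h')
  have hsurj : Function.Surjective L := by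
    intro z
    have hb : Function.Injective (pull X.B φ).flip := by
      intro a b hab
      refine sub_eq_zero.1 (hφ _ fun c => ?_)
      have := LinearMap.congr_fun hab c
      simp only [LinearMap.flip_apply, pull_apply] at this
      rw [pull_apply, map_sub, map_sub, LinearMap.sub_apply, X.inv.skew, X.inv.skew (φ b), this, sub_self]
    have hb' : Function.Surjective (pull X.B φ).flip :=
      (LinearMap.injective_iff_surjective_of_finrank_eq_finrank (Subspace.dual_finrank_eq (K := F) (V := N')).symm).1 hb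
    obtain ⟨a, ha⟩ := hb' ((X.B.flip z).comp (φ.restrictScalars F))
    refine ⟨(a, ⟨z - φ a, fun c => ?_⟩), by simp [L]⟩
    have := LinearMap.congr_fun ha c
    simp only [LinearMap.flip_apply, pull_apply, LinearMap.comp_apply, LinearMap.restrictScalars_apply] at this
    rw [map_sub, this, sub_self]
  have hnd : Nondeg (pull X.B Q.subtype) := by
    intro y hy
    refine Subtype.ext (X.nd _ fun z => ?_)
    obtain ⟨⟨a, y'⟩, rfl⟩ := hsurj z
    have := hortho (0, y) (a, y')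
    rwa [hy, add_zero, map_zero, LinearMap.zero_apply, show L (0, y) = (y : X.M) by simp [L]] at this
  refine ⟨⟨Q, pull X.B Q.subtype, X.inv.pull _, hnd⟩, LinearEquiv.ofBijective L ⟨hinj, hsurj⟩, fun a => ?_, hortho⟩
  show φ a + ((0 : Q) : X.M) = φ a
  rw [Submodule.coe_zero, add_zero]

lemma isom_of_split {X Y Y₁ Y₂ : SObj F} {N' : Type u} [AddCommGroup N'] [Module F N'] [Module F[X] N']
    [IsScalarTower F F[X] N'] [Finite N'] (B₁ B₂ : N' →ₗ[F] N' →ₗ[F] F) (hn : Nondeg B₁) (ψ : N' →ₗ[F[X]] N')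
    (hψ : ∀ a b, B₂ (ψ a) (ψ b) = B₁ a b) (e : Isom Y₁ Y₂)
    (Φ₁ : (N' × Y₁.M) ≃ₗ[F[X]] X.M) (h₁ : ∀ a b, X.B (Φ₁ a) (Φ₁ b) = B₁ a.1 b.1 + Y₁.B a.2 b.2)
    (Φ₂ : (N' × Y₂.M) ≃ₗ[F[X]] Y.M) (h₂ : ∀ a b, Y.B (Φ₂ a) (Φ₂ b) = B₂ a.1 b.1 + Y₂.B a.2 b.2) : Isom X Y := by
  obtain ⟨e, he⟩ := e
  have hψi : Function.Injective ψ := by
    intro a b h
    refine sub_eq_zero.1 (hn _ fun c => ?_)
    rw [← hψ, map_sub ψ, h, sub_self, map_zero, LinearMap.zero_apply]
  let ψ' : N' ≃ₗ[F[X]] N' := LinearEquiv.ofBijective ψ ⟨hψi, Finite.surjective_of_injective hψi⟩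
  refine ⟨Φ₁.symm.trans ((ψ'.prodCongr e).trans Φ₂), fun a b => ?_⟩
  obtain ⟨⟨a1, a2⟩, rfl⟩ := Φ₁.surjective a
  obtain ⟨⟨b1, b2⟩, rfl⟩ := Φ₁.surjective b
  simp only [LinearEquiv.trans_apply, LinearEquiv.symm_apply_apply]
  rw [h₂, h₁]
  show B₂ (ψ a1) (ψ b1) + Y₂.B (e a2) (e b2) = _
  rw [hψ, he]

section data

variable {X : SObj F} {D : Multiset (F[X] × ℕ)}

lemma one_lt_cardF : 1 < Nat.card F := Finite.one_lt_card

lemma data_max_stable (hX : HasData X.M D) {f : F[X]} (hf : f.Monic) (hi : Irreducible f) {m : ℕ}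
    (hmax : ∀ x ∈ D, x.2 ≤ m) (x : X.M) (h : f ^ (m + 1) • x = 0) : f ^ m • x = 0 := by
  have e : kc X.M (f ^ (m + 1)) = kc X.M (f ^ m) := by
    rw [hX.2 f hf hi, hX.2 f hf hi, sx_succ, above_zero_of_le D f m fun x hx _ => hmax x hx, mul_zero, add_zero]
  have hsub : {x : X.M | f ^ m • x = 0} = {x : X.M | f ^ (m + 1) • x = 0} := by
    refine Set.eq_of_subset_of_ncard_le (fun y hy => ?_) ?_
    · show f ^ (m + 1) • y = 0
      rw [pow_succ', ← smul_smul, show f ^ m • y = 0 from hy, smul_zero]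
    · rw [← Nat.card_coe_set_eq, ← Nat.card_coe_set_eq]
      exact e.le
  exact (Set.ext_iff.1 hsub x).2 h

lemma exists_top (hX : HasData X.M D) {f : F[X]} (hf : f.Monic) (hi : Irreducible f) {m : ℕ} (hm : 1 ≤ m)
    (hmem : (f, m) ∈ D) : ∃ u : X.M, f ^ m • u = 0 ∧ f ^ (m - 1) • u ≠ 0 := by
  by_contra hall
  push Not at hall
  obtain ⟨j, rfl⟩ : ∃ j, m = j + 1 := ⟨m - 1, by omega⟩
  rw [Nat.add_sub_cancel] at hall
  have hle : kc X.M (f ^ (j + 1)) ≤ kc X.M (f ^ j) :=
    Nat.card_le_card_of_injective (fun x => ⟨x.1, hall x.1 x.2⟩) fun a b h =>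
      Subtype.ext (congrArg (fun z => z.1) h)
  rw [hX.2 f hf hi, hX.2 f hf hi, sx_succ, Nat.pow_le_pow_iff_right one_lt_cardF] at hle
  have hpos : 0 < above D f j := by
    classical
    rw [above, Multiset.countP_pos]
    exact ⟨_, hmem, rfl, Nat.lt_succ_self j⟩
  have := Nat.mul_pos hi.natDegree_pos hpos
  omega

/-- removing a piece from the data -/
lemma data_split {N' : Type u} [AddCommGroup N'] [Module F[X] N'] [Finite N'] {Y : SObj F}
    {E : Multiset (F[X] × ℕ)} (hX : HasData X.M D) (hN' : HasData N' E) (Φ : (N' × Y.M) ≃ₗ[F[X]] X.M) {m : ℕ}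
    (hm : 1 ≤ m) (hE : ∀ x ∈ E, x.1.Monic ∧ Irreducible x.1 ∧ x.2 = m) (hmax : ∀ x ∈ D, x.2 ≤ m) :
    ∃ D', D = E + D' ∧ HasData Y.M D' := by
  classical
  have hkc : ∀ f : F[X], f.Monic → Irreducible f → ∀ e : ℕ,
      Nat.card F ^ sx D f e = Nat.card F ^ sx E f e * kc Y.M (f ^ e) := by
    intro f hf hi e
    haveI := Fintype.ofFinite F
    rw [← hX.2 f hf hi, ← kc_congr Φ, kc_prod, hN'.2 f hf hi]
  have hle : E ≤ D := by
    rw [Multiset.le_iff_count]
    rintro ⟨f, k⟩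
    by_cases hmem : (f, k) ∈ E
    swap
    · rw [Multiset.count_eq_zero.2 hmem]; exact Nat.zero_le _
    obtain ⟨hf, hi, hk⟩ := hE _ hmem
    simp only at hf hi hk
    subst hk
    obtain ⟨j, rfl⟩ : ∃ j, k = j + 1 := ⟨k - 1, by omega⟩
    have h1 := hkc f hf hi (j + 1)
    have h2 := hkc f hf hi j
    have hmono : kc Y.M (f ^ j) ≤ kc Y.M (f ^ (j + 1)) := Nat.card_le_card_of_injective
      (fun x => ⟨x.1, by rw [pow_succ', ← smul_smul, x.2, smul_zero]⟩)
      fun a b h => Subtype.ext (congrArg (fun z => z.1) h)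
    have h3 : Nat.card F ^ (sx D f j + sx E f (j + 1)) ≤ Nat.card F ^ (sx D f (j + 1) + sx E f j) := by
      rw [pow_add, pow_add, h1, h2]
      calc _ = (Nat.card F ^ sx E f j * Nat.card F ^ sx E f (j + 1)) * kc Y.M (f ^ j) := by ring
        _ ≤ (Nat.card F ^ sx E f j * Nat.card F ^ sx E f (j + 1)) * kc Y.M (f ^ (j + 1)) := Nat.mul_le_mul_left _ hmono
        _ = _ := by ring
    rw [Nat.pow_le_pow_iff_right one_lt_cardF, sx_succ, sx_succ] at h3
    have h4 : above E f j ≤ above D f j := by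
      refine Nat.le_of_mul_le_mul_left ?_ hi.natDegree_pos
      omega
    rw [above_split E f j, above_split D f j, above_zero_of_le D f (j + 1) fun x hx _ => hmax x hx,
      above_zero_of_le E f (j + 1) fun x hx _ => ((hE x hx).2.2).le] at h4
    omega
  obtain ⟨D', hD'⟩ := Multiset.le_iff_exists_add.1 hle
  subst hD'
  refine ⟨D', rfl, ?_, fun f hf hi e => ?_⟩
  · have h := hX.1
    rw [← Nat.card_congr Φ.toEquiv, Nat.card_prod, hN'.1, dim'_add, pow_add] at h
    exact Nat.eq_of_mul_eq_mul_left (pow_pos Nat.card_pos _) h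
  · have h := hkc f hf hi e
    rw [sx_add, pow_add] at h
    exact (Nat.eq_of_mul_eq_mul_left (pow_pos Nat.card_pos _) h).symm

lemma dual_mem (hX : HasData X.M D) {g : F[X]} (hg : g.Monic) (hi : Irreducible g) {m : ℕ} {w : X.M}
    (hw : g ^ m • w = 0) (hw' : g ^ (m - 1) • w ≠ 0) (hm : 1 ≤ m) (hmax : ∀ x ∈ D, x.2 ≤ m) : (g, m) ∈ D := by
  classical
  by_contra hmem
  obtain ⟨j, rfl⟩ : ∃ j, m = j + 1 := ⟨m - 1, by omega⟩
  have h0 : above D g j = 0 := above_zero_of_le D g j fun x hx hxg => by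
    have h1 := hmax x hx
    rcases Nat.lt_or_ge x.2 (j + 1) with h | h
    · omega
    · exfalso
      refine hmem ?_
      rwa [show (g, j + 1) = x from Prod.ext hxg.symm (by omega)]
  refine hw' ?_
  rw [Nat.add_sub_cancel]
  have hsub : {x : X.M | g ^ j • x = 0} = {x : X.M | g ^ (j + 1) • x = 0} := by
    refine Set.eq_of_subset_of_ncard_le (fun y hy => ?_) ?_
    · show g ^ (j + 1) • y = 0
      rw [pow_succ', ← smul_smul, show g ^ j • y = 0 from hy, smul_zero]
    · rw [← Nat.card_coe_set_eq, ← Nat.card_coe_set_eq]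
      refine le_of_eq ?_
      show kc X.M (g ^ (j + 1)) = kc X.M (g ^ j)
      rw [hX.2 g hg hi, hX.2 g hg hi, sx_succ, h0, mul_zero, add_zero]
  exact (Set.ext_iff.1 hsub w).2 hw

end data

/-- among more than `W D` objects two are isometric -/
def Pigeon (D : Multiset (F[X] × ℕ)) : Prop :=
  ∀ (ι : Type) [Fintype ι] (x : ι → SObj F), (∀ i, HasData (x i).M D) → W D < Fintype.card ι →
    ∃ i j, i ≠ j ∧ Isom (x i) (x j)

/-- the induction step -/
theorem step {D : Multiset (F[X] × ℕ)} {N' : Type u} [AddCommGroup N'] [Module F N'] [Module F[X] N']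
    [IsScalarTower F F[X] N'] {E : Multiset (F[X] × ℕ)} (hN' : HasData N' E) {m : ℕ} (hm : 1 ≤ m)
    (hEne : E ≠ 0) (hE : ∀ x ∈ E, x.1.Monic ∧ Irreducible x.1 ∧ x.2 = m) (hgE : Good E)
    (hmax : ∀ x ∈ D, x.2 ≤ m) (X₀ : SObj F) (hX₀ : HasData X₀.M D)
    (IH : ∀ (D' : Multiset (F[X] × ℕ)), D'.card < D.card → D = E + D' → ∀ Y : SObj F, HasData Y.M D' →
      Good D' ∧ Pigeon D')
    (κ : Type) [Fintype κ] (hW : ∀ D', D = E + D' → Fintype.card κ * W D' ≤ W D)
    (col : (N' →ₗ[F] N' →ₗ[F] F) → κ → Prop)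
    (hex : ∀ X : SObj F, HasData X.M D → ∃ (c : κ) (φ : N' →ₗ[F[X]] X.M), Nondeg (pull X.B φ) ∧ col (pull X.B φ) c)
    (hiso : ∀ (c : κ) (B₁ B₂ : N' →ₗ[F] N' →ₗ[F] F) (N : ℕ), Period F N' N → IsInv B₁ → IsInv B₂ → Nondeg B₁ →
      Nondeg B₂ → col B₁ c → col B₂ c → ∃ ψ : N' →ₗ[F[X]] N', ∀ a b, B₁ (ψ a) (ψ b) = B₂ a b) :
    Good D ∧ Pigeon D := by
  classical
  obtain ⟨c₀, φ₀, hφ₀, -⟩ := hex X₀ hX₀
  haveI : Finite N' := Finite.of_injective _ (injective_of_nondeg hφ₀)
  obtain ⟨Y₀, Φ₀, -, -⟩ := exists_split X₀ φ₀ hφ₀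
  obtain ⟨D', hD', hY₀⟩ := data_split hX₀ hN' Φ₀ hm hE hmax
  have hcard : D'.card < D.card := by
    rw [hD', Multiset.card_add]
    have := Multiset.card_pos.2 hEne
    omega
  obtain ⟨hgood, hpig⟩ := IH D' hcard hD' Y₀ hY₀
  refine ⟨hD' ▸ hgE.add hgood, ?_⟩
  intro ι _ x hx hι
  choose c φ hφ hcol using fun i => hex (x i) (hx i)
  choose Y Φ _ hΦ using fun i => exists_split (x i) (φ i) (hφ i)
  have hY : ∀ i, HasData (Y i).M D' := fun i => by
    obtain ⟨D'', h1, h2⟩ := data_split (hx i) hN' (Φ i) hm hE hmax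
    rwa [add_left_cancel (hD'.symm.trans h1)]
  obtain ⟨k, hk⟩ := Fintype.exists_lt_card_fiber_of_mul_lt_card c (lt_of_le_of_lt (hW D' hD') hι)
  obtain ⟨⟨i, hi⟩, ⟨j, hj⟩, hne, he⟩ := hpig {i // c i = k} (fun i => Y i.1) (fun i => hY i.1)
    (by rw [Fintype.card_subtype]; exact hk)
  refine ⟨i, j, fun h => hne (Subtype.ext h), ?_⟩
  obtain ⟨N, hN⟩ := exists_period (x i)
  obtain ⟨ψ, hψ⟩ := hiso k (pull (x j).B (φ j)) (pull (x i).B (φ i)) N
    (Period.of_injective (injective_of_nondeg (hφ i)) hN) ((x j).inv.pull _) ((x i).inv.pull _) (hφ j) (hφ i)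
    (hj ▸ hcol j) (hi ▸ hcol i)
  exact isom_of_split _ _ (hφ i) ψ hψ he (Φ i) (hΦ i) (Φ j) (hΦ j)

/-- the value of a cyclic piece on the socle, made 1 -/
lemma exists_value_one (h2 : (2 : F) ≠ 0) {D : Multiset (F[X] × ℕ)} {X : SObj F} (hX : HasData X.M D) {ε : F}
    (hε : ε * ε = 1) {m : ℕ} (hm : 1 ≤ m) (hev : Even m) (hmax : ∀ x ∈ D, x.2 ≤ m)
    (hcount : ∀ D', D = ({(Polynomial.X - C ε, m)} : Multiset (F[X] × ℕ)) + D' → (Polynomial.X - C ε, m) ∈ D')
    (hmem : (Polynomial.X - C ε, m) ∈ D) :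
    ∃ u : X.M, (Polynomial.X - C ε) ^ m • u = 0 ∧ X.B ((Polynomial.X - C ε) ^ (m - 1) • u) u = 1 := by
  classical
  haveI := Fintype.ofFinite F
  obtain ⟨N, hN⟩ := exists_period X
  have hfm := monic_X_sub_C ε
  have hfi := irreducible_X_sub_C ε
  have hdu := du_X_sub_C hε
  have base : ∀ (Z : SObj F) (D' : Multiset (F[X] × ℕ)), HasData Z.M D' → (∀ x ∈ D', x.2 ≤ m) →
      (Polynomial.X - C ε, m) ∈ D' → ∃ u : Z.M, (Polynomial.X - C ε) ^ m • u = 0 ∧
        Z.B ((Polynomial.X - C ε) ^ (m - 1) • u) u ≠ 0 := by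
    intro Z D' hZ hmax' hmem'
    obtain ⟨N', hN'⟩ := exists_period Z
    obtain ⟨u, hu, hu'⟩ := exists_top hZ hfm hfi hm hmem'
    obtain ⟨w, hw, huw⟩ := exists_partner Z.inv hN' Z.nd hu hu' (fun x hx => by
      rw [hdu] at hx ⊢
      exact data_max_stable hZ hfm hfi hmax' x hx)
    rw [hdu] at hw
    obtain ⟨u', hu'', r, hr⟩ := exists_cyclic Z.inv hN' h2 hfm hfi hdu hm (fun _ _ _ => hev) hu hw huw
    refine ⟨u', hu'', fun h => hr ?_⟩
    rw [eigen_pow (eigen_soc hm hu''), map_smul, LinearMap.smul_apply, h, smul_zero]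
  obtain ⟨u₀, hu₀, hc₀⟩ := base X D hX hmax hmem
  have hnd : Nondeg (pull X.B (cyc u₀ hu₀)) := nondeg_cyclic X.inv hN hfi hu₀ 1 (by rw [one_smul]; exact hc₀)
  haveI := finite_blk (m := m) hfm
  obtain ⟨Y, Φ, hΦ0, hΦ⟩ := exists_split X (cyc u₀ hu₀) hnd
  obtain ⟨D', hD', hY⟩ := data_split hX (hasData_blk hfm hfi m) Φ hm
    (fun x hx => by rw [Multiset.mem_singleton.1 hx]; exact ⟨hfm, hfi, rfl⟩) hmax
  obtain ⟨v, hv, hc₁⟩ := base Y D' hY (fun x hx => hmax x (by rw [hD']; exact Multiset.mem_add.2 (Or.inr hx)))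
    (hcount D' hD')
  obtain ⟨a, b, hab⟩ := FiniteField.exists_root_sum_quadratic
    (f := C (X.B ((Polynomial.X - C ε) ^ (m - 1) • u₀) u₀) * Polynomial.X ^ 2 - C 1)
    (g := C (Y.B ((Polynomial.X - C ε) ^ (m - 1) • v) v) * Polynomial.X ^ 2)
    (by rw [degree_sub_eq_left_of_degree_lt] <;> rw [degree_C_mul_X_pow 2 hc₀]
        · norm_num
        · exact degree_C_le.trans_lt (by norm_num))
    (degree_C_mul_X_pow 2 hc₁)
    (Nat.odd_iff.1 ((Nat.odd_iff.2 (FiniteField.odd_card_of_char_ne_two fun h => by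
      haveI := ringChar.of_eq h
      exact h2 (CharP.cast_eq_zero F 2)))))
  simp only [eval_sub, eval_mul, eval_C, eval_pow, eval_X] at hab
  refine ⟨Φ ((C a : F[X]) • one' _ m, (C b : F[X]) • v), ?_, ?_⟩
  · rw [← map_smul, Prod.smul_mk, blk_kill, smul_comm _ (C b) v, hv, smul_zero, ← Prod.zero_eq_mk, map_zero]
  · rw [← map_smul, Prod.smul_mk, hΦ, pull_apply]
    simp only [map_smul (cyc u₀ hu₀), cyc_one]
    simp only [C_smul', smul_comm _ a, smul_comm _ b, map_smul, LinearMap.smul_apply, smul_eq_mul]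
    linear_combination hab

/-- classification bound -/
theorem classify (h2 : (2 : F) ≠ 0) : ∀ (n : ℕ) (D : Multiset (F[X] × ℕ)), D.card = n →
    (∀ x ∈ D, x.1.Monic ∧ Irreducible x.1 ∧ 1 ≤ x.2) →
    ∀ X₀ : SObj F, HasData X₀.M D → Good D ∧ Pigeon D := by
  intro n
  induction n using Nat.strong_induction_on with
  | _ n ih =>
  intro D hn hD X₀ hX₀
  classical
  haveI := Fintype.ofFinite F
  rcases Multiset.empty_or_exists_mem D with rfl | hne
  · refine ⟨fun k => ?_, fun ι _ x hx hι => ?_⟩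
    · have : prodk (0 : Multiset (F[X] × ℕ)) k = 1 := rfl
      rw [this]
      exact ⟨SR_one, fun _ => ⟨by simp, coeff_one_zero⟩⟩
    · have hι' : 1 < Fintype.card ι := by
        refine lt_of_le_of_lt ?_ hι
        exact Nat.one_le_two_pow
      obtain ⟨i, j, hij⟩ := Fintype.one_lt_card_iff.1 hι'
      have hs : ∀ i, Subsingleton (x i).M := fun i => by
        have := (hx i).1
        rw [dim', Multiset.map_zero, Multiset.sum_zero, pow_zero] at this
        exact (Nat.card_eq_one_iff_unique.1 this).1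
      haveI := hs i
      haveI := hs j
      exact ⟨i, j, hij, LinearEquiv.ofSubsingleton _ _, fun a b => by
        rw [Subsingleton.elim a 0, Subsingleton.elim ((LinearEquiv.ofSubsingleton (x i).M (x j).M) 0) 0, map_zero,
          map_zero, LinearMap.zero_apply, LinearMap.zero_apply]⟩
  obtain ⟨⟨f, m⟩, hmem, hmax⟩ := Finset.exists_max_image D.toFinset Prod.snd
    (by obtain ⟨x, hx⟩ := hne; exact ⟨x, Multiset.mem_toFinset.2 hx⟩)
  rw [Multiset.mem_toFinset] at hmem
  replace hmax : ∀ x ∈ D, x.2 ≤ m := fun x hx => hmax x (Multiset.mem_toFinset.2 hx)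
  obtain ⟨hfm, hfi, hm⟩ : f.Monic ∧ Irreducible f ∧ 1 ≤ m := hD _ hmem
  obtain ⟨N₀, hN₀⟩ := exists_period X₀
  have h0 : f.coeff 0 ≠ 0 := by
    intro h0
    obtain ⟨u, hu, hu'⟩ := exists_top hX₀ hfm hfi hm hmem
    have hX : f = Polynomial.X := eq_of_monic_of_associated hfm monic_X
      (irreducible_X.associated_of_dvd hfi (X_dvd_iff.2 h0)).symm
    refine hu' ?_
    rw [hX] at hu ⊢
    have hN1 := hN₀.1
    calc (Polynomial.X : F[X]) ^ (m - 1) • u = (Polynomial.X : F[X]) ^ (N₀ - 1) • ((Polynomial.X : F[X]) ^ m • u) := by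
          rw [smul_smul, ← pow_add]
          exact (hN₀.mod (k := 1) (by omega) u).symm
      _ = 0 := by rw [hu, smul_zero]
  have IH : ∀ (E : Multiset (F[X] × ℕ)) (D' : Multiset (F[X] × ℕ)), D'.card < D.card → D = E + D' →
      ∀ Y : SObj F, HasData Y.M D' → Good D' ∧ Pigeon D' := fun E D' hc he Y hY =>
    ih D'.card (hn ▸ hc) D' rfl (fun x hx => hD x (by rw [he]; exact Multiset.mem_add.2 (Or.inr hx))) Y hY
  have hpartner : ∀ X : SObj F, HasData X.M D → ∀ N, Period F X.M N → ∃ u w : X.M, f ^ m • u = 0 ∧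
      du f ^ m • w = 0 ∧ X.B (f ^ (m - 1) • u) w ≠ 0 := by
    intro X hX N hN
    obtain ⟨u, hu, hu'⟩ := exists_top hX hfm hfi hm hmem
    obtain ⟨w, hw, huw⟩ := exists_partner X.inv hN X.nd hu hu' (fun x hx =>
      data_max_stable hX (du_monic h0) (du_irreducible hfm h0 hfi) hmax x hx)
    exact ⟨u, w, hu, hw, huw⟩
  by_cases hdu : du f = f
  swap
  · -- a pair of dual polynomials
    have hdm := du_monic h0
    have hdi := du_irreducible hfm h0 hfi
    refine step (N' := blk (f, m) × blk (du f, m)) (E := {(f, m)} + {(du f, m)})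
      ((hasData_blk hfm hfi m).prod (hasData_blk hdm hdi m)) hm (by simp) (fun x hx => ?_) ?_ hmax X₀ hX₀ (IH _)
      Unit (fun D' he => by rw [Fintype.card_unit, one_mul, he]; exact W_le _ _) (fun _ _ => True) (fun X hX => ?_)
      (fun _ B₁ B₂ N hN h₁ h₂ hn₁ _ _ _ => iso_pair_ne hfm h0 hfi hdu h₁ h₂ hn₁ hN)
    · simp only [Multiset.mem_add, Multiset.mem_singleton] at hx
      rcases hx with rfl | rfl
      · exact ⟨hfm, hfi, rfl⟩
      · exact ⟨hdm, hdi, rfl⟩
    · refine good_of_parts (m := m) (fun x hx => ?_) ?_ fun _ => ?_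
      · simp only [Multiset.mem_add, Multiset.mem_singleton] at hx
        rcases hx with rfl | rfl <;> rfl
      all_goals simp only [Multiset.map_add, Multiset.map_singleton, Multiset.prod_add, Multiset.prod_singleton]
      · exact (SR_pair hfm h0).1
      · obtain ⟨-, h2', h3⟩ := SR_pair hfm h0
        exact ⟨⟨f.natDegree, by rw [h2']; omega⟩, h3⟩
    · obtain ⟨N, hN⟩ := exists_period X
      obtain ⟨u, w, hu, hw, huw⟩ := hpartner X hX N hN
      exact ⟨(), _, nondeg_pair_ne X.inv hN hfm h0 hfi hdu hu hw huw, trivial⟩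
  by_cases hbad : ∃ ε : F, ε * ε = 1 ∧ f = Polynomial.X - C ε ∧ ¬ Even m
  · -- pairs for an eigenvalue
    obtain ⟨ε, hε, rfl, hodd⟩ := hbad
    rw [Nat.not_even_iff_odd] at hodd
    refine step (N' := blk (Polynomial.X - C ε, m) × blk (Polynomial.X - C ε, m))
      (E := {(Polynomial.X - C ε, m)} + {(Polynomial.X - C ε, m)})
      ((hasData_blk hfm hfi m).prod (hasData_blk hfm hfi m)) hm (by simp) (fun x hx => ?_) ?_ hmax X₀ hX₀ (IH _)
      Unit (fun D' he => by rw [Fintype.card_unit, one_mul, he]; exact W_le _ _)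
      (fun B _ => B ((Polynomial.X - C ε) ^ (m - 1) • (one' _ m, 0)) (one' _ m, 0) = 0 ∧
        B ((Polynomial.X - C ε) ^ (m - 1) • (one' _ m, 0)) (0, one' _ m) = 1 ∧
        B ((Polynomial.X - C ε) ^ (m - 1) • (0, one' _ m)) (one' _ m, 0) = -1 ∧
        B ((Polynomial.X - C ε) ^ (m - 1) • (0, one' _ m)) (0, one' _ m) = 0)
      (fun X hX => ?_) (fun _ B₁ B₂ N hN h₁ h₂ hn₁ _ hc₁ hc₂ => iso_pair_one h2 hm h₁ h₂ hn₁ hN
        (hc₁.1.trans hc₂.1.symm) (hc₁.2.1.trans hc₂.2.1.symm) (hc₁.2.2.1.trans hc₂.2.2.1.symm)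
        (hc₁.2.2.2.trans hc₂.2.2.2.symm))
    · simp only [Multiset.mem_add, Multiset.mem_singleton, or_self] at hx
      subst hx
      exact ⟨hfm, hfi, rfl⟩
    · refine good_of_parts (m := m) (fun x hx => ?_) ?_ fun _ => ?_
      · simp only [Multiset.mem_add, Multiset.mem_singleton, or_self] at hx
        subst hx; rfl
      all_goals simp only [Multiset.map_add, Multiset.map_singleton, Multiset.prod_add, Multiset.prod_singleton]
      · exact (X_sub_C_SR hε).mul (X_sub_C_SR hε)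
      · rw [mul_coeff_zero, (X_sub_C_SR hε).sq_const, hfm.natDegree_mul hfm]
        exact ⟨Even.add_self _, rfl⟩
    · obtain ⟨N, hN⟩ := exists_period X
      obtain ⟨u, w, hu, hw, huw⟩ := hpartner X hX N hN
      rw [hdu] at hw
      set c := X.B ((Polynomial.X - C ε) ^ (m - 1) • u) w with hc
      have hw' : (Polynomial.X - C ε) ^ m • (c⁻¹ • w) = 0 := by rw [smul_comm, hw, smul_zero]
      have huw' : X.B ((Polynomial.X - C ε) ^ (m - 1) • u) (c⁻¹ • w) = 1 := by
        rw [map_smul, smul_eq_mul, ← hc, inv_mul_cancel₀ huw]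
      obtain ⟨hnd, h1, h4, h3⟩ := nondeg_pair_one X.inv hN h2 hε hodd hu hw' huw'
      refine ⟨(), _, hnd, ?_⟩
      set φ := (cyc u hu).coprod (cyc (c⁻¹ • w) hw') with hφ
      have e1 : φ (one' _ m, 0) = u := by rw [hφ, LinearMap.coprod_apply, cyc_one, map_zero, add_zero]
      have e2 : φ (0, one' _ m) = c⁻¹ • w := by rw [hφ, LinearMap.coprod_apply, cyc_one, map_zero, zero_add]
      simp only [pull_apply, map_smul φ, e1, e2]
      exact ⟨h1, huw', h3, h4⟩
  push Not at hbad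
  have hcyc : ∀ X : SObj F, HasData X.M D → ∃ (u : X.M) (hu : f ^ m • u = 0) (r : F[X]),
      Nondeg (pull X.B (cyc u hu)) ∧ X.B (r • f ^ (m - 1) • u) u ≠ 0 := by
    intro X hX
    obtain ⟨N, hN⟩ := exists_period X
    obtain ⟨u, w, hu, hw, huw⟩ := hpartner X hX N hN
    rw [hdu] at hw
    obtain ⟨u', hu', r, hr⟩ := exists_cyclic X.inv hN h2 hfm hfi hdu hm hbad hu hw huw
    exact ⟨u', hu', r, nondeg_cyclic X.inv hN hfi hu' r hr, hr⟩
  have hgE : f ≠ Polynomial.X - C 1 → f ≠ Polynomial.X - C (-1) →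
      Good ({(f, m)} : Multiset (F[X] × ℕ)) := fun h1 hn1 =>
    good_of_parts (m := m) (fun x hx => by rw [Multiset.mem_singleton.1 hx])
      (by rw [Multiset.map_singleton, Multiset.prod_singleton]; exact SR_iff_du hfm h0 hdu)
      (fun _ => by
        rw [Multiset.map_singleton, Multiset.prod_singleton]
        exact (SR_iff_du hfm h0 hdu).even_of_irreducible h2 hfi h1 hn1)
  have hEmem : ∀ x ∈ ({(f, m)} : Multiset (F[X] × ℕ)), x.1.Monic ∧ Irreducible x.1 ∧ x.2 = m := fun x hx => by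
    rw [Multiset.mem_singleton.1 hx]; exact ⟨hfm, hfi, rfl⟩
  by_cases hone : f = Polynomial.X - C 1 ∨ f = Polynomial.X - C (-1)
  swap
  · -- cyclic pieces, one form
    push Not at hone
    refine step (N' := blk (f, m)) (E := {(f, m)}) (hasData_blk hfm hfi m) hm (by simp) hEmem (hgE hone.1 hone.2) hmax
      X₀ hX₀ (IH _) Unit (fun D' he => by rw [Fintype.card_unit, one_mul, he]; exact W_le _ _)
      (fun _ _ => True) (fun X hX => ?_) (fun _ B₁ B₂ N hN h₁ h₂ hn₁ hn₂ _ _ => ?_)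
    · obtain ⟨u, hu, r, hnd, -⟩ := hcyc X hX
      exact ⟨(), _, hnd, trivial⟩
    · refine iso_cyclic_gen hfm h0 hfi hdu (fun hd => ?_) h₁ h₂ hn₁ hn₂ hN
      have h' : f ∣ (Polynomial.X - C 1) * (Polynomial.X - C (-1)) := by
        rwa [show (Polynomial.X - C (1 : F)) * (Polynomial.X - C (-1)) = Polynomial.X ^ 2 - 1 by rw [map_neg, C_1]; ring]
      rcases hfi.prime.dvd_or_dvd h' with h | h
      · exact hone.1 (eq_of_monic_of_associated hfm (monic_X_sub_C _)
          (hfi.associated_of_dvd (irreducible_X_sub_C _) h))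
      · exact hone.2 (eq_of_monic_of_associated hfm (monic_X_sub_C _)
          (hfi.associated_of_dvd (irreducible_X_sub_C _) h))
  obtain ⟨ε, hε, rfl⟩ : ∃ ε : F, ε * ε = 1 ∧ f = Polynomial.X - C ε := by
    rcases hone with h | h
    · exact ⟨1, mul_one 1, h⟩
    · exact ⟨-1, by ring, h⟩
  have hev : Even m := hbad ε hε rfl
  have hgE' : Good ({(Polynomial.X - C ε, m)} : Multiset (F[X] × ℕ)) :=
    good_of_parts (m := m) (fun x hx => by rw [Multiset.mem_singleton.1 hx])
      (by rw [Multiset.map_singleton, Multiset.prod_singleton]; exact X_sub_C_SR hε)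
      (fun ho => absurd hev (Nat.not_even_iff_odd.2 ho))
  by_cases hmult : (Polynomial.X - C ε, m) ∈ D.erase (Polynomial.X - C ε, m)
  · -- repeated part: one class
    refine step (N' := blk (Polynomial.X - C ε, m)) (E := {(Polynomial.X - C ε, m)}) (hasData_blk hfm hfi m) hm
      (by simp) hEmem hgE' hmax X₀ hX₀ (IH _) Unit
      (fun D' he => by rw [Fintype.card_unit, one_mul, he]; exact W_le _ _)
      (fun B _ => B ((Polynomial.X - C ε) ^ (m - 1) • one' _ m) (one' _ m) = 1) (fun X hX => ?_)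
      (fun _ B₁ B₂ N hN h₁ h₂ hn₁ _ hc₁ hc₂ => iso_cyclic_one h2 hm h₁ h₂ hn₁ hN one_ne_zero
        (by rw [hc₁, hc₂, one_mul, one_mul]))
    obtain ⟨N, hN⟩ := exists_period X
    obtain ⟨u, hu, hu1⟩ := exists_value_one h2 hX hε hm hev hmax (fun D' he => by
      rwa [he, Multiset.singleton_add, Multiset.erase_cons_head] at hmult) hmem
    refine ⟨(), cyc u hu, nondeg_cyclic X.inv hN hfi hu 1 (by rw [one_smul, hu1]; exact one_ne_zero), ?_⟩
    show X.B (cyc u hu _) (cyc u hu _) = 1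
    rw [map_smul, cyc_one]
    exact hu1
  · -- two classes
    refine step (N' := blk (Polynomial.X - C ε, m)) (E := {(Polynomial.X - C ε, m)}) (hasData_blk hfm hfi m) hm
      (by simp) hEmem hgE' hmax X₀ hX₀ (IH _) Bool (fun D' he => ?_)
      (fun B c => B ((Polynomial.X - C ε) ^ (m - 1) • one' _ m) (one' _ m) ≠ 0 ∧
        (c = true ↔ IsSquare (B ((Polynomial.X - C ε) ^ (m - 1) • one' _ m) (one' _ m))))
      (fun X hX => ?_) (fun c B₁ B₂ N hN h₁ h₂ hn₁ _ hc₁ hc₂ => ?_)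
    · rw [Fintype.card_bool, he]
      refine W_two_mul D' hone hev fun h => hmult ?_
      rwa [he, Multiset.singleton_add, Multiset.erase_cons_head]
    · obtain ⟨u, hu, r, hnd, hr⟩ := hcyc X hX
      refine ⟨decide (IsSquare (X.B ((Polynomial.X - C ε) ^ (m - 1) • u) u)), cyc u hu, hnd, ?_⟩
      rw [pull_apply, map_smul, cyc_one]
      refine ⟨fun h => hr ?_, decide_eq_true_iff⟩
      rw [eigen_pow (eigen_soc hm hu), map_smul, LinearMap.smul_apply, h, smul_zero]
    · set a := B₁ ((Polynomial.X - C ε) ^ (m - 1) • one' _ m) (one' _ m)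
      set b := B₂ ((Polynomial.X - C ε) ^ (m - 1) • one' _ m) (one' _ m)
      have hsq : IsSquare (b / a) := by
        rw [← quadraticChar_one_iff_isSquare (div_ne_zero hc₂.1 hc₁.1)]
        have key : quadraticChar F a = quadraticChar F b := by
          by_cases hc : c = true
          · rw [(quadraticChar_one_iff_isSquare hc₁.1).2 (hc₁.2.1 hc), (quadraticChar_one_iff_isSquare hc₂.1).2 (hc₂.2.1 hc)]
          · rw [quadraticChar_neg_one_iff_not_isSquare.2 (fun h => hc (hc₁.2.2 h)),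
              quadraticChar_neg_one_iff_not_isSquare.2 (fun h => hc (hc₂.2.2 h))]
        rw [div_eq_mul_inv, map_mul, ← key, ← map_mul, mul_inv_cancel₀ hc₁.1, map_one]
      obtain ⟨d, hd⟩ := hsq
      refine iso_cyclic_one h2 hm h₁ h₂ hn₁ hN (d := d) (fun h => ?_) ?_
      · rw [h, mul_zero, div_eq_zero_iff] at hd
        exact hd.elim hc₂.1 hc₁.1
      · show b = d * d * a
        rw [← hd, div_mul_cancel₀ _ hc₁.1]

end SpClassCount2482
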