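import Mathlib
import Cfsg.Agent.SpClassCount.Poly

/-!
Numbers for the classes of `Sp(2n, q)`.
-/

set_option autoImplicit false

namespace SpClassCount2482

/-- half weight of a unit of degree in a part -/
def hw (k : ℕ) : ℕ := if k % 2 = 0 then k / 2 else k

/-- counting value of a part -/
def pv (q k m : ℕ) : ℕ := if k % 2 = 0 then we q m else q ^ m

/-- weighted tuples with parts `2, ..., j + 1` -/
def rs (q : ℕ) : ℕ → ℕ → ℕ
  | 0, i => if i = 0 then 1 else 0
  | j + 1, i => ∑ m ∈ Finset.range (i / hw (j + 2) + 1), pv q (j + 2) m * rs q j (i - hw (j + 2) * m)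

lemma hw_pos (j : ℕ) : 0 < hw (j + 2) := by rw [hw]; split_ifs <;> omega

section

variable {q : ℕ} {t : ℚ}

lemma sum_cs_le (t : ℚ) (ht : 0 ≤ t) (hu : (q : ℚ) * t ^ 2 < 1) (M : ℕ) :
    ∑ m ∈ Finset.range M, (cs q m : ℚ) * t ^ m ≤ (1 + t) ^ 2 / (1 - q * t ^ 2) := by
  set u : ℚ := q * t ^ 2 with hu'
  have hu0 : 0 ≤ u := by positivity
  have key : ∀ L, ∑ m ∈ Finset.range (2 * L + 2), (cs q m : ℚ) * t ^ m =
      (1 + 2 * t) * ∑ i ∈ Finset.range (L + 1), u ^ i + t ^ 2 * ∑ i ∈ Finset.range L, u ^ i := by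
    intro L
    induction L with
    | zero =>
      simp [Finset.sum_range_succ, cs]
    | succ L ih =>
      rw [show 2 * (L + 1) + 2 = 2 * L + 2 + 1 + 1 by ring, Finset.sum_range_succ, Finset.sum_range_succ, ih,
        Finset.sum_range_succ (fun i => u ^ i) (L + 1), Finset.sum_range_succ (fun i => u ^ i) L]
      rw [cs, cs, if_neg (by omega), if_pos (by omega), show (2 * L + 1) / 2 = L by omega,
        show (2 * L + 2) / 2 = L + 1 by omega]
      push_cast
      rw [hu']
      ring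
  have hgeo : ∀ L, ∑ i ∈ Finset.range L, u ^ i ≤ 1 / (1 - u) := by
    intro L
    rw [le_div_iff₀ (by linarith), geom_sum_mul_neg]
    linarith [pow_nonneg hu0 L]
  refine (Finset.sum_le_sum_of_subset_of_nonneg (Finset.range_subset_range.2 (show M ≤ 2 * M + 2 by omega))
    fun i _ _ => by positivity).trans ?_
  rw [key]
  refine (add_le_add (mul_le_mul_of_nonneg_left (hgeo _) (by positivity))
    (mul_le_mul_of_nonneg_left (hgeo _) (by positivity))).trans (le_of_eq ?_)
  ring

lemma sum_we_le (t : ℚ) (ht : 0 ≤ t) (hu : (q : ℚ) * t ^ 2 < 1) (M : ℕ) :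
    ∑ m ∈ Finset.range M, (we q m : ℚ) * t ^ m ≤ (1 + t) ^ 4 / (1 - q * t ^ 2) := by
  have h := sum_cs_le t ht hu
  have hnn : ∀ L, 0 ≤ ∑ m ∈ Finset.range L, (cs q m : ℚ) * t ^ m := fun L => Finset.sum_nonneg fun i _ => by positivity
  have e : ∀ L, ∑ m ∈ Finset.range (L + 2), (we q m : ℚ) * t ^ m =
      (∑ m ∈ Finset.range (L + 2), (cs q m : ℚ) * t ^ m) + 2 * t * (∑ m ∈ Finset.range (L + 1), (cs q m : ℚ) * t ^ m)
        + t ^ 2 * ∑ m ∈ Finset.range L, (cs q m : ℚ) * t ^ m := by
    intro L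
    induction L with
    | zero => simp [Finset.sum_range_succ, we]; ring
    | succ L ih =>
      rw [Finset.sum_range_succ _ (L + 2), ih, Finset.sum_range_succ _ (L + 2), Finset.sum_range_succ _ (L + 1),
        Finset.sum_range_succ _ L, we]
      push_cast
      ring
  refine (Finset.sum_le_sum_of_subset_of_nonneg (Finset.range_subset_range.2 (show M ≤ M + 2 by omega))
    fun i _ _ => by positivity).trans ?_
  rw [e]
  refine (add_le_add (add_le_add (h _) (mul_le_mul_of_nonneg_left (h _) (by positivity)))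
    (mul_le_mul_of_nonneg_left (h _) (sq_nonneg t))).trans (le_of_eq ?_)
  ring

/-- the factor of a part at `1 / 3` -/
def pfac (k : ℕ) : ℚ := (if k % 2 = 0 then (1 + (1 / 3 : ℚ) ^ (k / 2)) ^ 4 else 1) / (1 - (1 / 3) ^ (k - 1))

lemma sum_pv_le (hq : 3 ≤ q) (j M : ℕ) :
    ∑ m ∈ Finset.range M, (pv q (j + 2) m : ℚ) * (1 / (q : ℚ)) ^ (hw (j + 2) * m) ≤ pfac (j + 2) := by
  have hq' : (3 : ℚ) ≤ q := by exact_mod_cast hq
  set y : ℚ := 1 / q with hy
  have hy0 : 0 < y := by positivity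
  have hy1 : y ≤ 1 / 3 := one_div_le_one_div_of_le (by norm_num) hq'
  have hqy : (q : ℚ) * y = 1 := by rw [hy]; field_simp
  have hp : ∀ i, y ^ i ≤ (1 / 3 : ℚ) ^ i := fun i => pow_le_pow_left₀ hy0.le hy1 i
  have h3 : (1 / 3 : ℚ) ^ (j + 1) < 1 := pow_lt_one₀ (by norm_num) (by norm_num) (by omega)
  have h4 : y ^ (j + 1) < 1 := (hp _).trans_lt h3
  rw [pfac, show j + 2 - 1 = j + 1 from rfl]
  simp only [pv, hw]
  split_ifs with hk
  · have hu : (q : ℚ) * (y ^ ((j + 2) / 2)) ^ 2 = y ^ (j + 1) := by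
      obtain ⟨i, hi⟩ : ∃ i, (j + 2) / 2 = i + 1 := ⟨(j + 2) / 2 - 1, by omega⟩
      rw [← pow_mul, hi, show (i + 1) * 2 = (j + 1) + 1 by omega, pow_succ, mul_comm, mul_assoc, mul_comm y, hqy,
        mul_one]
    have h := sum_we_le (q := q) (y ^ ((j + 2) / 2)) (by positivity) (by rw [hu]; exact h4) M
    rw [hu] at h
    simp only [← pow_mul] at h
    refine h.trans ?_
    refine (div_le_div_of_nonneg_right (pow_le_pow_left₀ (by positivity) (add_le_add le_rfl (hp _)) _)
      (by linarith)).trans ?_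
    exact div_le_div_of_nonneg_left (by positivity) (by linarith) (by linarith [hp (j + 1)])
  · have e : ∀ m : ℕ, ((q ^ m : ℕ) : ℚ) * y ^ ((j + 2) * m) = (y ^ (j + 1)) ^ m := by
      intro m
      rw [Nat.cast_pow, pow_mul, ← mul_pow, pow_succ y (j + 1), mul_left_comm, hqy, mul_one]
    simp only [e]
    calc ∑ m ∈ Finset.range M, (y ^ (j + 1)) ^ m ≤ 1 / (1 - y ^ (j + 1)) := by
          rw [le_div_iff₀ (by linarith), geom_sum_mul_neg]
          linarith [pow_nonneg (pow_nonneg hy0.le (j + 1)) M]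
      _ ≤ _ := div_le_div_of_nonneg_left one_pos.le (by linarith) (by linarith [hp (j + 1)])

/-- the product of the factors -/
def pprod (j : ℕ) : ℚ := ∏ l ∈ Finset.range j, pfac (l + 2)

lemma pfac_nonneg (j : ℕ) : 0 ≤ pfac (j + 2) := by
  have h3 : (1 / 3 : ℚ) ^ (j + 1) < 1 := pow_lt_one₀ (by norm_num) (by norm_num) (by omega)
  rw [pfac, show j + 2 - 1 = j + 1 from rfl]
  refine div_nonneg ?_ (by linarith)
  split_ifs <;> positivity

lemma sum_rs_le (hq : 3 ≤ q) : ∀ j N,
    ∑ i ∈ Finset.range N, (rs q j i : ℚ) * (1 / (q : ℚ)) ^ i ≤ pprod j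
  | 0, N => by
    rw [pprod, Finset.range_zero, Finset.prod_empty]
    rcases N with _ | N
    · simp
    · rw [Finset.sum_range_succ']
      simp [rs]
  | j + 1, N => by
    have ih := sum_rs_le hq j N
    rw [pprod, Finset.prod_range_succ, ← pprod]
    simp only [rs, Nat.cast_sum, Finset.sum_mul]
    set y : ℚ := 1 / q
    set h := hw (j + 2) with hh
    have hpos : 0 < h := hw_pos j
    let f : ℕ × ℕ → ℚ := fun z => ((pv q (j + 2) z.1 : ℚ) * y ^ (h * z.1)) * ((rs q j z.2 : ℚ) * y ^ z.2)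
    let φ : (Σ _ : ℕ, ℕ) → ℕ × ℕ := fun x => (x.2, x.1 - h * x.2)
    have hb : ∀ x ∈ (Finset.range N).sigma fun i => Finset.range (i / h + 1), h * x.2 ≤ x.1 ∧ x.1 < N := by
      intro x hx
      simp only [Finset.mem_sigma, Finset.mem_range, Nat.lt_succ_iff, Nat.le_div_iff_mul_le hpos] at hx
      exact ⟨by rw [mul_comm]; exact hx.2, hx.1⟩
    calc ∑ i ∈ Finset.range N, ∑ m ∈ Finset.range (i / h + 1), ((pv q (j + 2) m * rs q j (i - h * m) : ℕ) : ℚ) * y ^ i
        = ∑ x ∈ (Finset.range N).sigma (fun i => Finset.range (i / h + 1)), f (φ x) := by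
          rw [Finset.sum_sigma' (Finset.range N)]
          refine Finset.sum_congr rfl fun x hx => ?_
          have := hb x hx
          simp only [f, φ, Nat.cast_mul]
          conv_lhs => rw [show x.1 = h * x.2 + (x.1 - h * x.2) by omega, pow_add]
          rw [show h * x.2 + (x.1 - h * x.2) - h * x.2 = x.1 - h * x.2 by omega]
          ring
      _ = ∑ z ∈ ((Finset.range N).sigma (fun i => Finset.range (i / h + 1))).image φ, f z := by
          rw [Finset.sum_image]
          intro x hx x' hx' he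
          have h1 := hb x hx
          have h2 := hb x' hx'
          simp only [φ, Prod.mk.injEq] at he
          obtain ⟨i, m⟩ := x
          obtain ⟨i', m'⟩ := x'
          simp only at he h1 h2
          obtain rfl := he.1
          obtain rfl : i = i' := by omega
          rfl
      _ ≤ ∑ z ∈ Finset.range N ×ˢ Finset.range N, f z := by
          refine Finset.sum_le_sum_of_subset_of_nonneg ?_ fun z _ _ => by positivity
          intro z hz
          obtain ⟨x, hx, rfl⟩ := Finset.mem_image.1 hz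
          have h1 := hb x hx
          have h2 : x.2 ≤ h * x.2 := Nat.le_mul_of_pos_left _ hpos
          simp only [φ, Finset.mem_product, Finset.mem_range]
          omega
      _ = (∑ m ∈ Finset.range N, (pv q (j + 2) m : ℚ) * y ^ (h * m)) *
            ∑ i ∈ Finset.range N, (rs q j i : ℚ) * y ^ i := by
          rw [Finset.sum_mul_sum, Finset.sum_product]
      _ ≤ pfac (j + 2) * pprod j :=
          mul_le_mul (sum_pv_le hq j N) ih (Finset.sum_nonneg fun i _ => by positivity) (pfac_nonneg j)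
      _ = _ := mul_comm _ _

/-- the two simpler products -/
def prodA (J : ℕ) : ℚ := ∏ l ∈ Finset.range J, 1 / (1 - (1 / 3 : ℚ) ^ (l + 1))

/-- the two simpler products -/
def prodB (I : ℕ) : ℚ := ∏ l ∈ Finset.range I, (1 + (1 / 3 : ℚ) ^ (l + 1))

lemma pprod_eq : ∀ j, pprod j = prodA j * prodB ((j + 1) / 2) ^ 4
  | 0 => by simp [pprod, prodA, prodB]
  | j + 1 => by
    rw [pprod, Finset.prod_range_succ, ← pprod, pprod_eq j, prodA, prodA, Finset.prod_range_succ _ j, pfac,
      show j + 2 - 1 = j + 1 from rfl]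
    split_ifs with h
    · rw [show (j + 1 + 1) / 2 = (j + 1) / 2 + 1 by omega, prodB, prodB, Finset.prod_range_succ _ ((j + 1) / 2)]
      ring
    · rw [show (j + 1 + 1) / 2 = (j + 1) / 2 by omega]
      ring

lemma prodA_le (J : ℕ) : prodA J ≤ 1786 / 1000 := by
  have hpos : ∀ l : ℕ, 0 < 1 - (1 / 3 : ℚ) ^ (l + 1) := fun l => by
    have := pow_lt_one₀ (a := (1 / 3 : ℚ)) (by norm_num) (by norm_num) (show l + 1 ≠ 0 by omega)
    linarith
  suffices h : ∀ J, 8 ≤ J → prodA J ≤ 1786 / 1000 * (1 - (1 / 3 : ℚ) ^ J) by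
    refine le_trans ?_ ((h (J + 8) (by omega)).trans ?_)
    · rw [prodA, prodA, Finset.prod_range_add]
      refine le_mul_of_one_le_right (Finset.prod_nonneg fun l _ => (div_pos one_pos (hpos l)).le) ?_
      refine Finset.one_le_prod fun l _ => ?_
      rw [one_le_div (hpos _)]
      linarith [show 0 ≤ (1 / 3 : ℚ) ^ (J + l + 1) by positivity]
    · linarith [show 0 ≤ (1 / 3 : ℚ) ^ (J + 8) by positivity]
  intro J hJ
  induction J, hJ using Nat.le_induction with
  | base => norm_num [prodA, Finset.prod_range_succ]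
  | succ J hJ ih =>
    rw [prodA, Finset.prod_range_succ, ← prodA, mul_one_div, div_le_iff₀ (hpos J)]
    refine ih.trans ?_
    rw [mul_assoc]
    refine mul_le_mul_of_nonneg_left ?_ (by norm_num)
    rw [pow_succ]
    nlinarith [sq_nonneg ((1 / 3 : ℚ) ^ J), show 0 ≤ (1 / 3 : ℚ) ^ J by positivity]

lemma prodB_le (J : ℕ) : prodB J ≤ 1566 / 1000 := by
  suffices h : ∀ J, 8 ≤ J → prodB J ≤ 1566 / 1000 * (1 - (1 / 3 : ℚ) ^ J) by
    refine le_trans ?_ ((h (J + 8) (by omega)).trans ?_)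
    · rw [prodB, prodB, Finset.prod_range_add]
      refine le_mul_of_one_le_right (Finset.prod_nonneg fun l _ => by positivity) ?_
      exact Finset.one_le_prod fun l _ => le_add_of_nonneg_right (by positivity)
    · linarith [show 0 ≤ (1 / 3 : ℚ) ^ (J + 8) by positivity]
  intro J hJ
  induction J, hJ using Nat.le_induction with
  | base => norm_num [prodB, Finset.prod_range_succ]
  | succ J hJ ih =>
    rw [prodB, Finset.prod_range_succ, ← prodB]
    refine (mul_le_mul_of_nonneg_right ih (by positivity)).trans ?_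
    rw [mul_assoc]
    refine mul_le_mul_of_nonneg_left ?_ (by norm_num)
    rw [pow_succ]
    nlinarith [sq_nonneg ((1 / 3 : ℚ) ^ J), show 0 ≤ (1 / 3 : ℚ) ^ J by positivity]

/-- the numerical bound -/
theorem total_le (hq : 3 ≤ q) (j n : ℕ) : 5 * ∑ i ∈ Finset.range (n + 1), q ^ (n - i) * rs q j i ≤ 54 * q ^ n := by
  rw [← Nat.cast_le (α := ℚ)]
  simp only [Nat.cast_mul, Nat.cast_sum, Nat.cast_pow, Nat.cast_ofNat]
  have h := sum_rs_le hq j (n + 1)
  have hq0 : (q : ℚ) ≠ 0 := by
    have : 0 < q := by omega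
    exact_mod_cast this.ne'
  have e : ∑ i ∈ Finset.range (n + 1), (q : ℚ) ^ (n - i) * rs q j i =
      (q : ℚ) ^ n * ∑ i ∈ Finset.range (n + 1), (rs q j i : ℚ) * (1 / (q : ℚ)) ^ i := by
    rw [Finset.mul_sum]
    refine Finset.sum_congr rfl fun i hi => ?_
    obtain ⟨d, rfl⟩ : ∃ d, n = d + i := ⟨n - i, by have := Finset.mem_range.1 hi; omega⟩
    rw [Nat.add_sub_cancel, pow_add, one_div_pow]
    field_simp
  have hb : pprod j ≤ 54 / 5 := by
    rw [pprod_eq]
    have h1 := prodA_le j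
    have h2 : prodB ((j + 1) / 2) ^ 4 ≤ (1566 / 1000) ^ 4 :=
      pow_le_pow_left₀ (Finset.prod_nonneg fun l _ => by positivity) (prodB_le _) 4
    refine (mul_le_mul h1 h2 (pow_nonneg (Finset.prod_nonneg fun l _ => by positivity) 4) (by norm_num)).trans (by norm_num)
  rw [e]
  calc 5 * ((q : ℚ) ^ n * ∑ i ∈ Finset.range (n + 1), (rs q j i : ℚ) * (1 / (q : ℚ)) ^ i)
      ≤ 5 * ((q : ℚ) ^ n * (54 / 5)) := by
        refine mul_le_mul_of_nonneg_left (mul_le_mul_of_nonneg_left (h.trans hb) (by positivity)) (by norm_num)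
    _ = _ := by ring

end

end SpClassCount2482
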