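import Mathlib
import Cfsg.Agent.GLClassCount.Main
import Cfsg.Agent.SUClassCount.Group
import Cfsg.Agent.SpClassCount.Classify
import Cfsg.Agent.SpClassCount.Arith

/-!
The classes of `Sp(2n, q)`, `q` odd.
-/

set_option autoImplicit false
set_option linter.unusedSectionVars false

universe u

namespace SpClassCount2482

open Polynomial Module GLClassCount2478 SUClassCount2481

variable {F : Type u} [Field F] [Fintype F] {n : ℕ}

/-! ### From the group to the forms -/

/-- reindexing -/
noncomputable def reix (F : Type u) [Field F] (n : ℕ) :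
    Matrix (Fin n ⊕ Fin n) (Fin n ⊕ Fin n) F ≃ₐ[F] Matrix (Fin (n + n)) (Fin (n + n)) F :=
  Matrix.reindexAlgEquiv F F finSumFinEquiv

/-- the form matrix -/
noncomputable def Jn (F : Type u) [Field F] (n : ℕ) : Matrix (Fin (n + n)) (Fin (n + n)) F :=
  reix F n (Matrix.J (Fin n) F)

/-- the embedding into the linear group -/
noncomputable def spGL (F : Type u) [Field F] (n : ℕ) : ↥(Matrix.symplecticGroup (Fin n) F) →* GL (Fin (n + n)) F :=
  ((reix F n).toAlgHom.toMonoidHom.comp (Matrix.symplecticGroup (Fin n) F).subtype).toHomUnits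

lemma val_spGL (y : ↥(Matrix.symplecticGroup (Fin n) F)) :
    (spGL F n y : Matrix (Fin (n + n)) (Fin (n + n)) F) = reix F n (y : Matrix (Fin n ⊕ Fin n) (Fin n ⊕ Fin n) F) := rfl

lemma reix_transpose (M : Matrix (Fin n ⊕ Fin n) (Fin n ⊕ Fin n) F) : reix F n M.transpose = (reix F n M).transpose := by
  simp [reix, Matrix.transpose_reindex]

lemma spGL_form (y : ↥(Matrix.symplecticGroup (Fin n) F)) :
    (spGL F n y : Matrix (Fin (n + n)) (Fin (n + n)) F).transpose * Jn F n * spGL F n y = Jn F n := by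
  rw [val_spGL, ← reix_transpose, Jn, ← map_mul, ← map_mul, SymplecticGroup.mem_iff'.1 y.2]

lemma Jn_transpose : (Jn F n).transpose = -Jn F n := by
  rw [Jn, ← reix_transpose, Matrix.J_transpose, map_neg]

lemma det_Jn : (Jn F n).det ≠ 0 := by
  have h := Matrix.isUnit_det_J (Fin n) F
  rw [Jn, reix, Matrix.reindexAlgEquiv_apply, Matrix.det_reindex_self]
  exact h.ne_zero

/-- the coordinates of the module of a matrix -/
noncomputable def evs (g : GL (Fin (n + n)) F) : modOf g →ₗ[F] (Fin (n + n) → F) :=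
  (Module.AEval'.of (Matrix.toLin' (g : Matrix (Fin (n + n)) (Fin (n + n)) F))).symm.toLinearMap

/-- the form on the module -/
noncomputable def formOf (g : GL (Fin (n + n)) F) : modOf g →ₗ[F] modOf g →ₗ[F] F :=
  (Matrix.toLinearMap₂' F (Jn F n)).compl₁₂ (evs g) (evs g)

lemma formOf_of (g : GL (Fin (n + n)) F) (x y : Fin (n + n) → F) :
    formOf g (Module.AEval'.of (Matrix.toLin' (g : Matrix (Fin (n + n)) (Fin (n + n)) F)) x)
      (Module.AEval'.of (Matrix.toLin' (g : Matrix (Fin (n + n)) (Fin (n + n)) F)) y) = x ⬝ᵥ (Jn F n).mulVec y := by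
  simp only [formOf, LinearMap.compl₁₂_apply, evs, LinearEquiv.coe_coe, LinearEquiv.symm_apply_apply,
    Matrix.toLinearMap₂'_apply']

lemma formOf_isInv (h2 : (2 : F) ≠ 0) {g : GL (Fin (n + n)) F}
    (hg : (g : Matrix (Fin (n + n)) (Fin (n + n)) F).transpose * Jn F n * g = Jn F n) : IsInv (formOf g) := by
  have hsurj := (Module.AEval'.of (Matrix.toLin' (g : Matrix (Fin (n + n)) (Fin (n + n)) F))).surjective
  refine ⟨fun a => ?_, fun a b => ?_⟩
  · obtain ⟨x, rfl⟩ := hsurj a
    rw [formOf_of]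
    have h : x ⬝ᵥ (Jn F n).mulVec x = -(x ⬝ᵥ (Jn F n).mulVec x) := by
      conv_lhs => rw [Matrix.dotProduct_mulVec, ← Matrix.mulVec_transpose, Jn_transpose, dotProduct_comm,
        Matrix.neg_mulVec, dotProduct_neg]
    exact (mul_eq_zero.1 (show x ⬝ᵥ (Jn F n).mulVec x * 2 = 0 by linear_combination h)).resolve_right h2
  · obtain ⟨x, rfl⟩ := hsurj a
    obtain ⟨y, rfl⟩ := hsurj b
    rw [Module.AEval'.X_smul_of, Module.AEval'.X_smul_of, Matrix.toLin'_apply, Matrix.toLin'_apply, formOf_of,
      formOf_of]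
    conv_rhs => rw [← hg, ← Matrix.mulVec_mulVec, ← Matrix.mulVec_mulVec, Matrix.dotProduct_mulVec x,
      Matrix.vecMul_transpose]

lemma formOf_nondeg (g : GL (Fin (n + n)) F) : Nondeg (formOf g) := by
  intro a ha
  obtain ⟨x, rfl⟩ := (Module.AEval'.of (Matrix.toLin' (g : Matrix (Fin (n + n)) (Fin (n + n)) F))).surjective a
  rw [LinearEquiv.map_eq_zero_iff]
  refine Matrix.eq_zero_of_vecMul_eq_zero det_Jn (dotProduct_eq_zero _ fun y => ?_)
  rw [← Matrix.dotProduct_mulVec]
  have := ha (Module.AEval'.of (Matrix.toLin' (g : Matrix (Fin (n + n)) (Fin (n + n)) F)) y)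
  rw [formOf_of] at this
  exact this

/-- the object of a symplectic element -/
noncomputable def objOf (h2 : (2 : F) ≠ 0) (y : ↥(Matrix.symplecticGroup (Fin n) F)) : SObj F :=
  haveI : Finite (modOf (spGL F n y)) :=
    Finite.of_equiv _ (Module.AEval'.of (Matrix.toLin' (spGL F n y : Matrix (Fin (n + n)) (Fin (n + n)) F))).toEquiv
  ⟨modOf (spGL F n y), formOf (spGL F n y), formOf_isInv h2 (spGL_form y), formOf_nondeg _⟩

lemma isConj_of_isom (h2 : (2 : F) ≠ 0) {y z : ↥(Matrix.symplecticGroup (Fin n) F)}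
    (h : Isom (objOf h2 y) (objOf h2 z)) : IsConj y z := by
  obtain ⟨e₀, he₀⟩ := h
  let e : modOf (spGL F n y) ≃ₗ[F[X]] modOf (spGL F n z) := e₀
  have he : ∀ a b, formOf (spGL F n z) (e a) (e b) = formOf (spGL F n y) a b := he₀
  let a := Module.AEval'.of (Matrix.toLin' (spGL F n y : Matrix (Fin (n + n)) (Fin (n + n)) F))
  let b := Module.AEval'.of (Matrix.toLin' (spGL F n z : Matrix (Fin (n + n)) (Fin (n + n)) F))
  let φ : (Fin (n + n) → F) →ₗ[F] (Fin (n + n) → F) :=
    b.symm.toLinearMap.comp ((e.toLinearMap.restrictScalars F).comp a.toLinearMap)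
  set c := LinearMap.toMatrix' φ with hc
  have hcv : ∀ v, b (c.mulVec v) = e (a v) := fun v => by
    rw [hc, LinearMap.toMatrix'_mulVec]
    show b (b.symm (e (a v))) = _
    rw [LinearEquiv.apply_symm_apply]
  have hcomm : c * (spGL F n y : Matrix (Fin (n + n)) (Fin (n + n)) F) = (spGL F n z : Matrix (Fin (n + n)) (Fin (n + n)) F) * c := by
    refine Matrix.toLin'.injective (LinearMap.ext fun v => b.injective ?_)
    rw [Matrix.toLin'_apply, Matrix.toLin'_apply, ← Matrix.mulVec_mulVec, ← Matrix.mulVec_mulVec, hcv,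
      ← Matrix.toLin'_apply, ← Matrix.toLin'_apply]
    show e (a _) = b _
    rw [← Module.AEval'.X_smul_of, ← Module.AEval'.X_smul_of]
    show e ((Polynomial.X : F[X]) • a v) = (Polynomial.X : F[X]) • b (c.mulVec v)
    rw [map_smul, hcv]
  have hform : c.transpose * Jn F n * c = Jn F n := by
    refine Matrix.toBilin'.injective (LinearMap.ext fun x => LinearMap.ext fun w => ?_)
    rw [Matrix.toBilin'_apply', Matrix.toBilin'_apply', ← Matrix.mulVec_mulVec, ← Matrix.mulVec_mulVec,
      Matrix.dotProduct_mulVec x, Matrix.vecMul_transpose]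
    have h1 : formOf (spGL F n z) (e (a x)) (e (a w)) = formOf (spGL F n y) (a x) (a w) := he (a x) (a w)
    rw [← hcv, ← hcv] at h1
    rw [← formOf_of (spGL F n z), ← formOf_of (spGL F n y)]
    exact h1
  obtain ⟨M, hM⟩ : ∃ M, reix F n M = c := ⟨(reix F n).symm c, AlgEquiv.apply_symm_apply _ _⟩
  have hMs : M ∈ Matrix.symplecticGroup (Fin n) F := by
    rw [SymplecticGroup.mem_iff']
    refine (reix F n).injective ?_
    rw [map_mul, map_mul, reix_transpose, hM]
    exact hform
  refine isConj_iff.2 ⟨⟨M, hMs⟩, mul_inv_eq_iff_eq_mul.2 (Subtype.ext ((reix F n).injective ?_))⟩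
  show reix F n (M * (y : Matrix (Fin n ⊕ Fin n) (Fin n ⊕ Fin n) F)) = reix F n ((z : Matrix (Fin n ⊕ Fin n) (Fin n ⊕ Fin n) F) * M)
  rw [map_mul, map_mul, hM]
  exact hcomm

/-! ### Tuples -/

/-- the weight of an entry -/
noncomputable def wq (k : ℕ) (f : F[X]) : ℕ := if k % 2 = 0 then wk f else 1

/-- admissible entries for a part -/
noncomputable def partSet (F : Type u) [Field F] [Fintype F] (k m : ℕ) : Finset F[X] := by
  classical
  exact if k % 2 = 0 then srSet F m else (srSet F (2 * m)).filter fun f => f.coeff 0 = 1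

/-- half weight of an entry -/
noncomputable def hd (k : ℕ) (f : F[X]) : ℕ := if k % 2 = 0 then k / 2 * f.natDegree else k * (f.natDegree / 2)

/-- the condition on an entry -/
def OK (k : ℕ) (f : F[X]) : Prop := SR f ∧ (Odd k → Even f.natDegree ∧ f.coeff 0 = 1)

lemma sum_partSet_le (h2 : (2 : F) ≠ 0) (k m : ℕ) : ∑ f ∈ partSet F k m, wq k f ≤ pv (Fintype.card F) k m := by
  classical
  rw [partSet, pv]
  split_ifs with h
  · simp only [wq, if_pos h]
    exact sum_wk_le h2 m
  · simp only [wq, if_neg h, ← Finset.card_eq_sum_ones]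
    exact card_srOne_le h2 m

lemma mem_partSet {k : ℕ} {f : F[X]} (h : OK k f) :
    f ∈ partSet F k (if k % 2 = 0 then f.natDegree else f.natDegree / 2) := by
  classical
  rw [partSet]
  by_cases hk : k % 2 = 0
  · rw [if_pos hk, if_pos hk]; exact mem_srSet.2 ⟨h.1, rfl⟩
  · rw [if_neg hk, if_neg hk, Finset.mem_filter]
    obtain ⟨he, hc⟩ := h.2 (Nat.odd_iff.2 (by omega))
    exact ⟨mem_srSet.2 ⟨h.1, by obtain ⟨d, hd⟩ := he; omega⟩, hc⟩

/-- weighted tuples with trivial first entry -/
noncomputable def restSp (F : Type u) [Field F] [Fintype F] : (j : ℕ) → ℕ → Finset (Fin (j + 1) → F[X])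
  | 0, i => by
    classical
    exact if i = 0 then {fun _ => 1} else ∅
  | j + 1, i => by
    classical
    exact (Finset.range (i / hw (j + 2) + 1)).biUnion fun m =>
      ((partSet F (j + 2) m) ×ˢ (restSp F j (i - hw (j + 2) * m))).image fun x => Fin.snoc x.2 x.1

/-- weight of a tuple -/
noncomputable def tw' {j : ℕ} (v : Fin j → F[X]) : ℕ := ∏ k : Fin j, wq ((k : ℕ) + 1) (v k)

lemma sum_biUnion_le {α β : Type*} [DecidableEq β] (s : Finset α) (t : α → Finset β) (f : β → ℕ) :
    ∑ x ∈ s.biUnion t, f x ≤ ∑ a ∈ s, ∑ x ∈ t a, f x := by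
  classical
  induction s using Finset.induction_on with
  | empty => simp
  | insert a s ha ih =>
    rw [Finset.biUnion_insert, Finset.sum_insert ha]
    exact ((Nat.le_add_right _ _).trans (Finset.sum_union_inter (s₁ := t a)).le).trans (Nat.add_le_add_left ih _)

lemma sum_image_le' {α β : Type*} [DecidableEq β] (s : Finset α) (g : α → β) (f : β → ℕ) :
    ∑ x ∈ s.image g, f x ≤ ∑ a ∈ s, f (g a) := Finset.sum_image_le_of_nonneg fun x _ => Nat.zero_le _

lemma sum_restSp_le (h2 : (2 : F) ≠ 0) : ∀ j i, ∑ v ∈ restSp F j i, tw' v ≤ rs (Fintype.card F) j i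
  | 0, i => by
    simp only [restSp, rs]
    split_ifs
    · simp [tw', wq]
    · simp
  | j + 1, i => by
    classical
    rw [restSp, rs]
    refine (sum_biUnion_le _ _ _).trans (Finset.sum_le_sum fun m _ => ?_)
    refine (sum_image_le' _ _ _).trans ?_
    rw [Finset.sum_product]
    refine le_trans (le_of_eq ?_) (Nat.mul_le_mul (sum_partSet_le h2 (j + 2) m) (sum_restSp_le h2 j _))
    rw [Finset.sum_mul_sum]
    refine Finset.sum_congr rfl fun p _ => Finset.sum_congr rfl fun w _ => ?_
    simp only [tw', Fin.prod_univ_castSucc, Fin.snoc_castSucc, Fin.snoc_last, Fin.val_last, Fin.val_castSucc]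
    exact mul_comm _ _

lemma mem_restSp : ∀ (j : ℕ) (v : Fin (j + 1) → F[X]), (∀ k : Fin (j + 1), OK ((k : ℕ) + 1) (v k)) → v 0 = 1 →
    v ∈ restSp F j (∑ k : Fin (j + 1), hd ((k : ℕ) + 1) (v k))
  | 0, v, _, h1 => by
    classical
    rw [restSp, if_pos (by simp [h1, hd]), Finset.mem_singleton]
    funext i
    rw [show i = 0 from Fin.ext (by have := i.2; omega), h1]
  | j + 1, v, hv, h1 => by
    classical
    rw [restSp]
    have hm := mem_restSp j (Fin.init v) (fun k => hv k.castSucc) h1
    have hl := hv (Fin.last (j + 1))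
    simp only [Fin.val_last] at hl
    simp only [Finset.mem_biUnion, Finset.mem_range, Finset.mem_image, Finset.mem_product]
    have e : hd (j + 1 + 1) (v (Fin.last (j + 1))) = hw (j + 2) *
        (if (j + 2) % 2 = 0 then (v (Fin.last (j + 1))).natDegree else (v (Fin.last (j + 1))).natDegree / 2) := by
      rw [show j + 1 + 1 = j + 2 from rfl, hd, hw]; split_ifs <;> rfl
    refine ⟨_, ?_, (v (Fin.last (j + 1)), Fin.init v), ⟨mem_partSet (k := j + 2) hl, ?_⟩, Fin.snoc_init_self v⟩
    · rw [Nat.lt_succ_iff, Nat.le_div_iff_mul_le (hw_pos j), mul_comm _ (hw (j + 2)), ← e, Fin.sum_univ_castSucc,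
        Fin.val_last]
      exact Nat.le_add_left _ _
    · rw [Fin.sum_univ_castSucc, Fin.val_last, e, Nat.add_sub_cancel]
      exact hm

lemma two_mul_hd {k : ℕ} {f : F[X]} (h : OK k f) : 2 * hd k f = k * f.natDegree := by
  rw [hd]
  split_ifs with hk
  · rw [← mul_assoc, show 2 * (k / 2) = k by omega]
  · obtain ⟨⟨d, hd'⟩, -⟩ := h.2 (Nat.odd_iff.2 (by omega))
    rw [hd', show (d + d) / 2 = d by omega]
    ring

/-- all admissible tuples -/
noncomputable def allSp (F : Type u) [Field F] [Fintype F] (n j : ℕ) : Finset (Fin (j + 1) → F[X]) := by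
  classical
  exact (Finset.range (n + 1)).biUnion fun i => (restSp F j i).biUnion fun r =>
    (partSet F 1 (n - i)).image fun p => Function.update r 0 p

lemma sum_allSp_le (h2 : (2 : F) ≠ 0) (n j : ℕ) :
    ∑ v ∈ allSp F n j, tw' v ≤ ∑ i ∈ Finset.range (n + 1), Fintype.card F ^ (n - i) * rs (Fintype.card F) j i := by
  classical
  refine (sum_biUnion_le _ _ _).trans (Finset.sum_le_sum fun i _ => ?_)
  refine (sum_biUnion_le _ _ _).trans ?_
  refine le_trans (Finset.sum_le_sum fun r hr => ?_)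
    (show ∑ r ∈ restSp F j i, Fintype.card F ^ (n - i) * tw' r ≤ _ by
      rw [← Finset.mul_sum]; exact Nat.mul_le_mul_left _ (sum_restSp_le h2 j i))
  refine (sum_image_le' _ _ _).trans ?_
  have h : ∀ p ∈ partSet F 1 (n - i), tw' (Function.update r 0 p) ≤ tw' r := by
    intro p _
    refine le_of_eq (Finset.prod_congr rfl fun k _ => ?_)
    by_cases hk : k = 0
    · subst hk; simp [wq]
    · rw [Function.update_of_ne hk]
  refine (Finset.sum_le_card_nsmul _ _ _ h).trans ?_
  rw [smul_eq_mul]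
  refine Nat.mul_le_mul_right _ ?_
  rw [partSet, if_neg (by omega)]
  exact card_srOne_le h2 _

lemma mem_allSp {n j : ℕ} (v : Fin (j + 1) → F[X]) (hv : ∀ k : Fin (j + 1), OK ((k : ℕ) + 1) (v k))
    (hw' : ∑ k : Fin (j + 1), ((k : ℕ) + 1) * (v k).natDegree = n + n) : v ∈ allSp F n j := by
  classical
  have hr : ∀ k : Fin (j + 1), OK ((k : ℕ) + 1) (Function.update v 0 1 k) := fun k => by
    by_cases hk : k = 0
    · subst hk; rw [Function.update_self]; exact ⟨SR_one, fun _ => ⟨by simp, coeff_one_zero⟩⟩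
    · rw [Function.update_of_ne hk]; exact hv k
  have hm := mem_restSp j _ hr (Function.update_self _ _ _)
  set i := ∑ k : Fin (j + 1), hd ((k : ℕ) + 1) (Function.update v 0 1 k) with hi
  have hsum : 2 * ∑ k : Fin (j + 1), hd ((k : ℕ) + 1) (v k) = n + n := by
    rw [Finset.mul_sum, ← hw']
    exact Finset.sum_congr rfl fun k _ => two_mul_hd (hv k)
  have hsplit : ∑ k : Fin (j + 1), hd ((k : ℕ) + 1) (v k) = (v 0).natDegree / 2 + i := by
    rw [hi, Fin.sum_univ_succ, Fin.sum_univ_succ]
    simp only [Function.update_self, Function.update_of_ne (Fin.succ_ne_zero _)]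
    simp [hd]
  simp only [allSp, Finset.mem_biUnion, Finset.mem_range, Finset.mem_image]
  refine ⟨i, by omega, _, hm, v 0, ?_, by simp⟩
  have := mem_partSet (hv 0)
  simp only [Fin.val_zero, zero_add, if_neg (show ¬ 1 % 2 = 0 by omega)] at this
  rwa [show n - i = (v 0).natDegree / 2 by omega]

/-! ### The bound -/

theorem card_classes_le (h2 : (2 : F) ≠ 0) (e : ℕ) :
    Nat.card (ConjClasses ↥(Matrix.symplecticGroup (Fin (e + 1)) F)) ≤
      ∑ v ∈ allSp F (e + 1) (e + 1 + e), tw' v := by
  classical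
  haveI : Fintype (ConjClasses (GL (Fin (e + 1 + (e + 1))) F)) := Fintype.ofFinite _
  let π : ConjClasses ↥(Matrix.symplecticGroup (Fin (e + 1)) F) → ConjClasses (GL (Fin (e + 1 + (e + 1))) F) :=
    ConjClasses.map (spGL F (e + 1))
  obtain ⟨v, hinj, hv⟩ := exists_tuples (F := F) (n := e + 1 + (e + 1))
  let v' : ConjClasses (GL (Fin (e + 1 + (e + 1))) F) → Fin (e + 1 + e + 1) → F[X] := fun C k => v C k
  have hfib : ∀ C, Nat.card {x // π x = C} ≤ if v' C ∈ allSp F (e + 1) (e + 1 + e) then tw' (v' C) else 0 := by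
    intro C
    rcases isEmpty_or_nonempty {x // π x = C} with h | ⟨⟨x₀, hx₀⟩⟩
    · rw [Nat.card_of_isEmpty]; exact Nat.zero_le _
    obtain ⟨-, g, ι, hι, P, hgC, hP, hsum, ⟨E⟩, hvP⟩ := hv C
    set D : Multiset (F[X] × ℕ) := (Finset.univ : Finset ι).val.map P with hDdef
    have hblocks : ∀ x ∈ D, x.1.Monic ∧ Irreducible x.1 ∧ 1 ≤ x.2 := fun x hx => by
      obtain ⟨i, -, rfl⟩ := Multiset.mem_map.1 hx
      exact ⟨(hP i).1, (hP i).2.1, (hP i).2.2.1⟩
    have hpi : HasData (∀ i, blk (P i)) D := by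
      refine ⟨?_, fun f hf hi k => ?_⟩
      · rw [Nat.card_pi, dim', hDdef, Multiset.map_map]
        refine Eq.trans ?_ (Finset.prod_pow_eq_pow_sum _ _ _)
        refine Finset.prod_congr rfl fun i _ => ?_
        show Nat.card (blk (P i)) = _
        rw [natCard_quot ((hP i).1.pow _), natDegree_pow, Nat.card_eq_fintype_card]
        rfl
      · rw [kc_pi, sx, hDdef, Multiset.map_map]
        refine Eq.trans ?_ (Finset.prod_pow_eq_pow_sum _ _ _)
        refine Finset.prod_congr rfl fun i _ => ?_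
        rw [kc_blk hf hi (hP i).1 (hP i).2.1 k, Nat.card_eq_fintype_card]
        rfl
    have hdata : ∀ y, π (ConjClasses.mk y) = C → HasData (objOf h2 y).M D := by
      intro y hy
      obtain ⟨h, hh⟩ := isConj_iff.1 (ConjClasses.mk_eq_mk_iff_isConj.1
        (show ConjClasses.mk (spGL F (e + 1) y) = ConjClasses.mk g from hy.trans hgC.symm))
      obtain ⟨E'⟩ := nonempty_iso_of_conj hh
      exact hpi.congr (E'.trans E).symm
    choose rep hrep using fun x : {x // π x = C} => ConjClasses.mk_surjective x.1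
    have hobj : ∀ x, HasData (objOf h2 (rep x)).M D := fun x => hdata _ (by rw [hrep]; exact x.2)
    obtain ⟨hgood, hpig⟩ := classify h2 _ D rfl hblocks (objOf h2 (rep ⟨x₀, hx₀⟩)) (hobj _)
    have hprod : ∀ k : Fin (e + 1 + e + 1), prodk D ((k : ℕ) + 1) = v' C k := fun k => by
      rw [show v' C k = v C k from rfl, hvP k, prodk, hDdef, Multiset.filter_map, Multiset.map_map,
        Finset.prod_eq_multiset_prod, Finset.filter_val]
      rfl
    have hOK : ∀ k : Fin (e + 1 + e + 1), OK ((k : ℕ) + 1) (v' C k) := fun k => hprod k ▸ hgood ((k : ℕ) + 1)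
    have hweight : ∑ k : Fin (e + 1 + e + 1), ((k : ℕ) + 1) * (v' C k).natDegree = (e + 1) + (e + 1) := by
      have hle : ∀ i, (P i).2 ≤ e + 1 + (e + 1) := fun i => by
        calc (P i).2 ≤ (P i).2 * (P i).1.natDegree := Nat.le_mul_of_pos_right _ (hP i).2.1.natDegree_pos
          _ ≤ _ := hsum ▸ Finset.single_le_sum (f := fun i => (P i).2 * (P i).1.natDegree)
              (fun _ _ => Nat.zero_le _) (Finset.mem_univ i)
      let idx : ι → Fin (e + 1 + e + 1) := fun i => ⟨(P i).2 - 1, by have := hle i; have := (hP i).2.2.1; omega⟩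
      refine Eq.trans ?_ hsum
      rw [← Finset.sum_fiberwise Finset.univ idx]
      refine Finset.sum_congr rfl fun k _ => ?_
      rw [show v' C k = v C k from rfl, hvP k, natDegree_prod_of_monic _ _ fun i _ => (hP i).1, Finset.mul_sum]
      refine Finset.sum_congr (Finset.filter_congr fun i _ => ?_) fun i hi => ?_
      · have := (hP i).2.2.1
        constructor
        · intro h; exact Fin.ext (show (P i).2 - 1 = (k : ℕ) by omega)
        · rintro rfl; show (P i).2 = (P i).2 - 1 + 1; omega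
      · have := (hP i).2.2.1
        have hk := (Finset.mem_filter.1 hi).2
        rw [show (P i).2 = (k : ℕ) + 1 by rw [← hk]; show (P i).2 = (P i).2 - 1 + 1; omega]
    rw [if_pos (mem_allSp _ hOK hweight)]
    haveI : Fintype {x // π x = C} := Fintype.ofFinite _
    have hW : Nat.card {x // π x = C} ≤ W D := by
      by_contra hlt
      push Not at hlt
      rw [Nat.card_eq_fintype_card] at hlt
      let ε := Fintype.equivFin {x // π x = C}
      obtain ⟨i, j, hij, hiso⟩ := hpig (Fin (Fintype.card {x // π x = C})) (fun i => objOf h2 (rep (ε.symm i)))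
        (fun i => hobj _) (by rwa [Fintype.card_fin])
      refine hij (ε.symm.injective (Subtype.ext ?_))
      rw [← hrep, ← hrep, ConjClasses.mk_eq_mk_iff_isConj]
      exact isConj_of_isom h2 hiso
    refine hW.trans ?_
    -- compare with the weights of the tuple
    rw [W, tw', Finset.card_eq_sum_card_fiberwise (f := fun x : F[X] × ℕ => x.2) (t := (spA D).image Prod.snd)
      (fun x hx => Finset.mem_image_of_mem _ hx), ← Finset.prod_pow_eq_pow_sum]
    have hk : ∀ m ∈ (spA D).image Prod.snd, 1 ≤ m ∧ m ≤ e + 1 + e + 1 := by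
      intro m hm
      obtain ⟨x, hx, rfl⟩ := Finset.mem_image.1 hm
      simp only [spA, Finset.mem_filter, Multiset.mem_toFinset] at hx
      obtain ⟨i, -, rfl⟩ := Multiset.mem_map.1 hx.1
      refine ⟨(hP i).2.2.1, ?_⟩
      calc (P i).2 ≤ (P i).2 * (P i).1.natDegree := Nat.le_mul_of_pos_right _ (hP i).2.1.natDegree_pos
        _ ≤ ∑ i, (P i).2 * (P i).1.natDegree := Finset.single_le_sum (f := fun i => (P i).2 * (P i).1.natDegree)
              (fun _ _ => Nat.zero_le _) (Finset.mem_univ i)
        _ = _ := by rw [hsum]; ring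
    have hfac : ∀ m ∈ (spA D).image Prod.snd, 2 ^ ((spA D).filter fun x => x.2 = m).card ≤ wq m (prodk D m) := by
      intro m hm
      have hsub : ∀ x ∈ (spA D).filter (fun x => x.2 = m),
          x.2 = m ∧ Even m ∧ ((x.1 = X - Polynomial.C 1 ∧ (prodk D m).eval 1 = 0) ∨ (x.1 = X - Polynomial.C (-1) ∧ (prodk D m).eval (-1) = 0)) := by
        intro x hx
        simp only [spA, Finset.mem_filter, Multiset.mem_toFinset] at hx
        obtain ⟨⟨hxD, hx1, hx2⟩, rfl⟩ := hx
        have hdvd : x.1 ∣ prodk D x.2 :=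
          Multiset.dvd_prod (Multiset.mem_map_of_mem _ (Multiset.mem_filter.2 ⟨hxD, rfl⟩))
        refine ⟨rfl, hx2, hx1.imp (fun h => ⟨h, ?_⟩) (fun h => ⟨h, ?_⟩)⟩ <;>
          exact eval_eq_zero_of_dvd_of_eval_eq_zero hdvd (by rw [h]; simp)
      obtain ⟨x, hx, rfl⟩ := Finset.mem_image.1 hm
      obtain ⟨-, hev, -⟩ := hsub x (Finset.mem_filter.2 ⟨hx, rfl⟩)
      rw [wq, if_pos (Nat.even_iff.1 hev), wk]
      have hS : ((spA D).filter fun y => y.2 = x.2) ⊆
          (if (prodk D x.2).eval 1 = 0 then {(X - Polynomial.C (1 : F), x.2)} else ∅) ∪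
          (if (prodk D x.2).eval (-1) = 0 then {(X - Polynomial.C (-1 : F), x.2)} else ∅) := by
        intro y hy
        obtain ⟨h1, -, h3⟩ := hsub y hy
        rw [Finset.mem_union]
        rcases h3 with ⟨h, h'⟩ | ⟨h, h'⟩
        · refine Or.inl ?_
          rw [if_pos h', Finset.mem_singleton]
          exact Prod.ext h h1
        · refine Or.inr ?_
          rw [if_pos h', Finset.mem_singleton]
          exact Prod.ext h h1
      refine (Nat.pow_le_pow_right two_pos ((Finset.card_le_card hS).trans (Finset.card_union_le _ _))).trans ?_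
      rw [pow_add]
      refine Nat.mul_le_mul ?_ ?_ <;> split_ifs <;> simp
    let ix : ℕ → Fin (e + 1 + e + 1) := fun m => ⟨min (m - 1) (e + 1 + e), by omega⟩
    have hix : ∀ m ∈ (spA D).image Prod.snd, ((ix m : ℕ) + 1) = m := fun m hm => by
      have := hk m hm
      show min (m - 1) (e + 1 + e) + 1 = m
      omega
    calc ∏ m ∈ (spA D).image Prod.snd, 2 ^ ((spA D).filter fun x => x.2 = m).card
        ≤ ∏ m ∈ (spA D).image Prod.snd, wq m (prodk D m) := Finset.prod_le_prod' hfac
      _ = ∏ k ∈ ((spA D).image Prod.snd).image ix, wq (((k : Fin (e + 1 + e + 1)) : ℕ) + 1) (v' C k) := by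
          rw [Finset.prod_image (g := ix) fun a ha b hb h => by
            have := congrArg (fun k : Fin (e + 1 + e + 1) => (k : ℕ) + 1) h
            simp only [hix a ha, hix b hb] at this
            exact this]
          refine Finset.prod_congr rfl fun m hm => ?_
          rw [← hprod, hix m hm]
      _ ≤ ∏ k : Fin (e + 1 + e + 1), wq ((k : ℕ) + 1) (v' C k) := Finset.prod_le_prod_of_subset_of_one_le' (Finset.subset_univ _)
          fun k _ _ => by
            rw [wq, wk]
            split_ifs <;> simp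
  have hsplit : Nat.card (ConjClasses ↥(Matrix.symplecticGroup (Fin (e + 1)) F)) = ∑ C, Nat.card {x // π x = C} := by
    rw [← Nat.card_sigma]; exact (Nat.card_congr (Equiv.sigmaFiberEquiv π)).symm
  rw [hsplit]
  calc ∑ C, Nat.card {x // π x = C} ≤ ∑ C, if v' C ∈ allSp F (e + 1) (e + 1 + e) then tw' (v' C) else 0 :=
        Finset.sum_le_sum fun C _ => hfib C
    _ = ∑ u ∈ (Finset.univ.filter fun C => v' C ∈ allSp F (e + 1) (e + 1 + e)).image v', tw' u := by
        rw [← Finset.sum_filter, Finset.sum_image (g := v') fun C _ C' _ h => hinj (funext fun k => congrFun h k)]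
    _ ≤ _ := Finset.sum_le_sum_of_subset fun u hu => by
        obtain ⟨C, hC, rfl⟩ := Finset.mem_image.1 hu
        exact (Finset.mem_filter.1 hC).2

theorem card_classes_bound (hodd : Odd (Fintype.card F)) (e : ℕ) :
    5 * Nat.card (ConjClasses ↥(Matrix.symplecticGroup (Fin (e + 1)) F)) ≤ 54 * Fintype.card F ^ (e + 1) := by
  have h2 : (2 : F) ≠ 0 := by
    intro h
    have := (FiniteField.even_card_iff_char_two (F := F)).1 ?_
    · exact (Nat.not_even_iff_odd.2 hodd) (Nat.even_iff.2 this)
    · exact (CharP.ringChar_of_prime_eq_zero Nat.prime_two (by exact_mod_cast h))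
  have hq : 3 ≤ Fintype.card F := by
    obtain ⟨k, hk⟩ := hodd
    have := Fintype.one_lt_card (α := F)
    omega
  exact (Nat.mul_le_mul_left _ ((card_classes_le h2 e).trans (sum_allSp_le h2 _ _))).trans (total_le hq _ _)

end SpClassCount2482
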